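import Groth.Agent.Lib.OT.Char
import Groth.Agent.Lib.Hopf.FiniteGroupPow
import Groth.Prelude.Def_W4c5ffgsreadingcourseOT

/-!
The eigen-decomposition of the augmentation ideal of a Hopf algebra killed by `p`.
-/

universe u

set_option linter.style.haveILetI false

open WithConv

namespace GrothLib.OT

variable (R : Type u) [CommRing R] (A : Type u) [CommRing A] [HopfAlgebra R A]

/-- counit followed by the unit -/
noncomputable def etaEps : Module.End R A :=
  Algebra.linearMap R A ∘ₗ (Bialgebra.counitAlgHom R A).toLinearMap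

/-- the projection to the augmentation ideal -/
noncomputable def augProj : Module.End R A := 1 - etaEps R A

variable {R A}

theorem augProj_apply (a : A) :
    augProj R A a = a - algebraMap R A (Bialgebra.counitAlgHom R A a) := rfl

theorem counit_augProj (a : A) : Bialgebra.counitAlgHom R A (augProj R A a) = 0 := by
  rw [augProj_apply, map_sub, AlgHom.commutes, Algebra.algebraMap_self, RingHom.id_apply, sub_self]

theorem augProj_eq_self {a : A} (ha : Bialgebra.counitAlgHom R A a = 0) : augProj R A a = a := by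
  rw [augProj_apply, ha, map_zero, sub_zero]

theorem powConv_zero_apply (a : A) :
    SGA3b.powConv R A 0 a = algebraMap R A (Bialgebra.counitAlgHom R A a) := by
  simp [SGA3b.powConv]

theorem powConv_one : SGA3b.powConv R A 1 = AlgHom.id R A := by
  simp [SGA3b.powConv]

theorem powConv_mul (a b : ℕ) :
    SGA3b.powConv R A (a * b) = (SGA3b.powConv R A a).comp (SGA3b.powConv R A b) := by
  apply toConv_injective
  simp only [SGA3b.powConv, toConv_ofConv]
  rw [GrothLib.Hopf.FiniteRank.comp_convPow, pow_mul]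
  simp

theorem counit_powConv (n : ℕ) (a : A) :
    Bialgebra.counitAlgHom R A (SGA3b.powConv R A n a) = Bialgebra.counitAlgHom R A a := by
  have h := GrothLib.Hopf.FiniteRank.comp_convPow (Bialgebra.counitAlgHom R A) (toConv (AlgHom.id R A)) n
  rw [ofConv_toConv, AlgHom.comp_id] at h
  have h1 : toConv (Bialgebra.counitAlgHom R A) = (1 : WithConv (A →ₐ[R] R)) :=
    WithConv.ext (AlgHom.ext fun x => by simp)
  rw [h1, one_pow, ← h1] at h
  exact DFunLike.congr_fun (toConv_injective h) a

variable {p : ℕ} [Fact p.Prime]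

theorem powConv_mod (hp : toConv (AlgHom.id R A) ^ p = 1) (n : ℕ) :
    SGA3b.powConv R A (n % p) = SGA3b.powConv R A n := by
  simp only [SGA3b.powConv]
  conv_rhs => rw [← Nat.div_add_mod n p, pow_add, pow_mul, hp, one_pow, one_mul]

variable (hp : toConv (AlgHom.id R A) ^ p = 1)

/-- the action of `(ZMod p)ˣ` by the power maps -/
noncomputable def rho : (ZMod p)ˣ →* Module.End R A where
  toFun m := (SGA3b.powConv R A (m : ZMod p).val).toLinearMap
  map_one' := by
    rw [Units.val_one, ZMod.val_one, powConv_one]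
    rfl
  map_mul' m n := by
    rw [Units.val_mul, ZMod.val_mul, powConv_mod hp, powConv_mul]
    rfl

theorem rho_apply (m : (ZMod p)ˣ) : rho hp m = (SGA3b.powConv R A (m : ZMod p).val).toLinearMap := rfl

theorem rho_mul_etaEps (m : (ZMod p)ˣ) : rho hp m * etaEps R A = etaEps R A :=
  LinearMap.ext fun a => (SGA3b.powConv R A (m : ZMod p).val).commutes _

theorem etaEps_mul_rho (m : (ZMod p)ˣ) : etaEps R A * rho hp m = etaEps R A :=
  LinearMap.ext fun a => congrArg (algebraMap R A) (counit_powConv _ a)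

theorem commute_rho_augProj (m : (ZMod p)ˣ) : Commute (rho hp m) (augProj R A) := by
  rw [Commute, SemiconjBy, augProj, mul_sub, sub_mul, mul_one, one_mul, rho_mul_etaEps, etaEps_mul_rho]

theorem augProj_mul_self : augProj R A * augProj R A = augProj R A :=
  LinearMap.ext fun a => augProj_eq_self (counit_augProj a)

variable (χ : (ZMod p)ˣ →* Rˣ) (u : R)

/-- the projection onto the `χ ^ i`-eigenspace of the augmentation ideal -/
noncomputable def proj' (i : ℕ) : Module.End R A := idem (rho hp) χ u i * augProj R A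

theorem proj_eq (i : ℕ) : OortTate.proj R A p u χ i = idem (rho hp) χ u i := rfl

theorem commute_idem_augProj (i : ℕ) : Commute (idem (rho hp) χ u i) (augProj R A) :=
  (Commute.sum_left _ _ _ fun m _ => (commute_rho_augProj hp m).smul_left _).smul_left _

variable {χ u}

theorem mem_eigenAug {i : ℕ} {f : A} : f ∈ OortTate.eigenAug R A p χ i ↔
    Bialgebra.counitAlgHom R A f = 0 ∧
      ∀ m : (ZMod p)ˣ, SGA3b.powConv R A (m : ZMod p).val f = (χ m : R) ^ i • f := by
  simp [OortTate.eigenAug]

theorem eigenAug_congr {i j : ℕ} (h : i ≡ j [MOD (p - 1)]) :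
    OortTate.eigenAug R A p χ i = OortTate.eigenAug R A p χ j := by
  simp only [OortTate.eigenAug, pow_eq_of_modEq h]

theorem proj'_congr {i j : ℕ} (h : i ≡ j [MOD (p - 1)]) : proj' hp χ u i = proj' hp χ u j := by
  rw [proj', proj', idem_congr h]

theorem proj'_mem (i : ℕ) (a : A) : proj' hp χ u i a ∈ OortTate.eigenAug R A p χ i := by
  refine mem_eigenAug.2 ⟨?_, fun m => ?_⟩
  · rw [proj', (commute_idem_augProj hp χ u i).eq]
    exact counit_augProj _
  · have h := DFunLike.congr_fun (mul_idem (rho hp) u m i (χ := χ)) (augProj R A a)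
    exact h

variable (hχ : ∀ m : (ZMod p)ˣ, m ≠ 1 → IsUnit ((χ m : R) - 1)) (hu : u * ((p - 1 : ℕ) : R) = 1)

include hχ hu

theorem proj'_eq_self {i : ℕ} {f : A} (hf : f ∈ OortTate.eigenAug R A p χ i) : proj' hp χ u i f = f := by
  obtain ⟨h0, h⟩ := mem_eigenAug.1 hf
  rw [proj', Module.End.mul_apply, augProj_eq_self h0]
  simp only [idem, LinearMap.smul_apply, LinearMap.sum_apply, rho_apply, AlgHom.toLinearMap_apply, h,
    smul_smul, ← Finset.sum_smul]
  rw [sum_chi_mul hχ, if_pos (Nat.ModEq.refl _), hu, one_smul]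

theorem proj'_mul (i j : ℕ) :
    proj' hp χ u i * proj' hp χ u j = if i ≡ j [MOD (p - 1)] then proj' hp χ u i else 0 := by
  rw [proj', proj', mul_assoc, ← mul_assoc (augProj R A), ← (commute_idem_augProj hp χ u j).eq, mul_assoc,
    augProj_mul_self, ← mul_assoc, idem_mul_idem hχ hu, ite_mul, zero_mul]

theorem proj'_eq_zero {i j : ℕ} (h : ¬ i ≡ j [MOD (p - 1)]) {f : A}
    (hf : f ∈ OortTate.eigenAug R A p χ j) : proj' hp χ u i f = 0 := by
  rw [← proj'_eq_self hp hχ hu hf, ← Module.End.mul_apply, proj'_mul hp hχ hu, if_neg h, LinearMap.zero_apply]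

theorem sum_proj' : ∑ i : Fin (p - 1), proj' hp χ u (i : ℕ) = augProj R A := by
  simp only [proj', ← Finset.sum_mul, sum_idem hχ hu, one_mul]

theorem sum_proj'_apply (a : A) : ∑ i : Fin (p - 1), proj' hp χ u (i : ℕ) a = augProj R A a := by
  rw [← sum_proj' hp hχ hu, LinearMap.sum_apply]

theorem range_proj' (i : ℕ) : LinearMap.range (proj' hp χ u i) = OortTate.eigenAug R A p χ i :=
  le_antisymm (LinearMap.range_le_iff_comap.2 (Submodule.eq_top_iff'.2 fun a => proj'_mem hp i a))
    fun _ hf => ⟨_, proj'_eq_self hp hχ hu hf⟩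

include hp in
theorem iSup_eigenAug : (⨆ i : Fin (p - 1), OortTate.eigenAug R A p χ (i : ℕ)) =
    LinearMap.ker (Bialgebra.counitAlgHom R A).toLinearMap := by
  refine le_antisymm (iSup_le fun i => inf_le_left) fun a ha => ?_
  rw [← augProj_eq_self (R := R) (LinearMap.mem_ker.1 ha), ← sum_proj'_apply hp hχ hu]
  exact Submodule.sum_mem _ fun i _ =>
    Submodule.mem_iSup_of_mem (p := fun i : Fin (p - 1) => OortTate.eigenAug R A p χ (i : ℕ)) i
      (proj'_mem hp _ _)

include hp in
theorem iSupIndep_eigenAug :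
    iSupIndep (fun i : Fin (p - 1) => OortTate.eigenAug R A p χ (i : ℕ)) := by
  rw [iSupIndep_def]
  intro i
  rw [Submodule.disjoint_def]
  intro f hf hf'
  have hle : (⨆ (j : Fin (p - 1)) (_ : j ≠ i), OortTate.eigenAug R A p χ (j : ℕ)) ≤
      LinearMap.ker (proj' hp χ u (i : ℕ)) :=
    iSup₂_le fun j hj g hg => LinearMap.mem_ker.2 (proj'_eq_zero hp hχ hu
      (fun e => hj (Fin.ext (Nat.ModEq.eq_of_lt_of_lt e i.2 j.2).symm)) hg)
  rw [← proj'_eq_self hp hχ hu hf]
  exact hle hf'

end GrothLib.OT
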