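import Groth.Agent.Lib.OT.Field
import Groth.Agent.Lib.Hopf.Deligne
import Groth.Agent.Lib.Hopf.OrderPrimeComm
import Mathlib.RingTheory.LocalRing.Module
import Mathlib.RingTheory.Flat.FaithfullyFlat.Basic
import Mathlib.RingTheory.LocalRing.ResidueField.Ideal
import Mathlib.RingTheory.Spectrum.Prime.FreeLocus
import Mathlib.FieldTheory.IsAlgClosed.AlgebraicClosure

/-!
For a group scheme of order `p` the eigenspaces are invertible and the algebra is spanned by the powers
of the first one.
-/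

universe u

set_option linter.style.haveILetI false

open WithConv TensorProduct

namespace GrothLib.OT

section BaseChange

variable {R : Type u} [CommRing R] {A : Type u} [CommRing A] [HopfAlgebra R A] (S : Type u) [CommRing S]
  [Algebra R S]

theorem powConv_baseChange (n : ℕ) (a : A) :
    SGA3b.powConv S (S ⊗[R] A) n (1 ⊗ₜ a) = 1 ⊗ₜ SGA3b.powConv R A n a := by
  have h2 : GrothLib.Hopf.Deligne.res (toConv (AlgHom.id S (S ⊗[R] A))) =
      toConv ((Algebra.TensorProduct.includeRight : A →ₐ[R] S ⊗[R] A).comp (toConv (AlgHom.id R A)).ofConv) := rfl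
  have h := GrothLib.Hopf.Deligne.res_pow (R := R) (A := A) (toConv (AlgHom.id S (S ⊗[R] A))) n
  rw [h2, ← GrothLib.Hopf.FiniteRank.comp_convPow] at h
  exact DFunLike.congr_fun (congrArg ofConv h) a

variable {p : ℕ} [Fact p.Prime]

theorem convPow_baseChange (hp : toConv (AlgHom.id R A) ^ p = 1) :
    toConv (AlgHom.id S (S ⊗[R] A)) ^ p = 1 := by
  refine WithConv.ext (Algebra.TensorProduct.ext (by ext) (AlgHom.ext fun a => ?_))
  change SGA3b.powConv S (S ⊗[R] A) p (1 ⊗ₜ a) = _
  rw [powConv_baseChange, SGA3b.powConv, hp]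
  simp [Algebra.algebraMap_eq_smul_one, Algebra.TensorProduct.one_def]

/-- the extended character -/
noncomputable def chiS (χ : (ZMod p)ˣ →* Rˣ) : (ZMod p)ˣ →* Sˣ :=
  (Units.map (algebraMap R S : R →* S)).comp χ

theorem chiS_apply (χ : (ZMod p)ˣ →* Rˣ) (m : (ZMod p)ˣ) : (chiS S χ m : S) = algebraMap R S (χ m : R) := rfl

theorem augProj_baseChange (a : A) :
    augProj S (S ⊗[R] A) ((1 : S) ⊗ₜ[R] a) = (1 : S) ⊗ₜ[R] augProj R A a := by
  simp [augProj_apply, tmul_sub, Algebra.algebraMap_eq_smul_one, Algebra.TensorProduct.one_def]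

theorem proj'_baseChange (hp : toConv (AlgHom.id R A) ^ p = 1) (χ : (ZMod p)ˣ →* Rˣ) (u : R) (i : ℕ)
    (a : A) : proj' (convPow_baseChange S hp) (chiS S χ) (algebraMap R S u) i ((1 : S) ⊗ₜ[R] a) =
      (1 : S) ⊗ₜ[R] proj' hp χ u i a := by
  rw [proj', proj', Module.End.mul_apply, Module.End.mul_apply, augProj_baseChange]
  simp only [idem, LinearMap.smul_apply, LinearMap.sum_apply, rho_apply, AlgHom.toLinearMap_apply,
    powConv_baseChange, tmul_smul, tmul_sum, chiS_apply, ← map_pow, algebraMap_smul]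

theorem chiS_isUnit {χ : (ZMod p)ˣ →* Rˣ} (hχ : ∀ m : (ZMod p)ˣ, m ≠ 1 → IsUnit ((χ m : R) - 1))
    (m : (ZMod p)ˣ) (hm : m ≠ 1) : IsUnit ((chiS S χ m : S) - 1) := by
  simpa [chiS_apply] using (hχ m hm).map (algebraMap R S)

theorem chiS_mem_span {χ : (ZMod p)ˣ →* Rˣ}
    (hχp : ∀ m : (ZMod p)ˣ, ((χ m : Rˣ) : R) - (((m : ZMod p).val : ℕ) : R) ∈ Ideal.span ({(p : R)} : Set R))
    (m : (ZMod p)ˣ) :
    ((chiS S χ m : Sˣ) : S) - (((m : ZMod p).val : ℕ) : S) ∈ Ideal.span ({(p : S)} : Set S) := by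
  obtain ⟨c, hc⟩ := Ideal.mem_span_singleton.1 (hχp m)
  refine Ideal.mem_span_singleton.2 ⟨algebraMap R S c, ?_⟩
  have h := congrArg (algebraMap R S) hc
  rw [map_sub, map_mul, map_natCast, map_natCast] at h
  exact h

end BaseChange

section Global

variable {R : Type u} [CommRing R] {A : Type u} [CommRing A] [HopfAlgebra R A]
  [Module.Finite R A] [Module.Projective R A] {p : ℕ} [Fact p.Prime]

theorem convPow_eq_one (hrk : ∀ q : PrimeSpectrum R, Module.rankAtStalk (R := R) A q = p) :
    toConv (AlgHom.id R A) ^ p = 1 :=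
  haveI := GrothLib.Hopf.OrderPrime.isCocomm_of_rankAtStalk_eq (A := A) Fact.out hrk
  GrothLib.Hopf.Deligne.convPow_rank p hrk

variable {χ : (ZMod p)ˣ →* Rˣ}

theorem mul_mem_eigenAug {i j : ℕ} {f g : A} (hf : f ∈ OortTate.eigenAug R A p χ i)
    (hg : g ∈ OortTate.eigenAug R A p χ j) : f * g ∈ OortTate.eigenAug R A p χ (i + j) := by
  obtain ⟨hf0, hfm⟩ := mem_eigenAug.1 hf
  obtain ⟨-, hgm⟩ := mem_eigenAug.1 hg
  refine mem_eigenAug.2 ⟨by rw [map_mul, hf0, zero_mul], fun m => ?_⟩
  rw [map_mul, hfm, hgm, smul_mul_smul_comm, ← pow_add]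

theorem pow_le_eigenAug {t : ℕ} (ht : 1 ≤ t) :
    OortTate.eigenAug R A p χ 1 ^ t ≤ OortTate.eigenAug R A p χ t := by
  induction t, ht using Nat.le_induction with
  | base => rw [pow_one]
  | succ t _ ih => rw [pow_succ]; exact Submodule.mul_le.2 fun f hf g hg => mul_mem_eigenAug (ih hf) hg

theorem prod_mem_eigenAug {ι : Type*} (s : Finset ι) (hs : s.Nonempty) (f : ι → A)
    (hf : ∀ i ∈ s, f i ∈ OortTate.eigenAug R A p χ 1) :
    ∏ i ∈ s, f i ∈ OortTate.eigenAug R A p χ s.card := by
  induction hs using Finset.Nonempty.cons_induction with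
  | singleton a => simpa using hf a (by simp)
  | cons a s has hs ih =>
    rw [Finset.prod_cons, Finset.card_cons, add_comm]
    exact mul_mem_eigenAug (hf a (by simp)) (ih fun i hi => hf i (by simp [hi]))

theorem exists_rep (i : ℕ) : ∃ t, 1 ≤ t ∧ t ≤ p - 1 ∧ t ≡ i [MOD (p - 1)] := by
  have hp := (Fact.out : p.Prime).two_le
  rcases Nat.eq_zero_or_pos (i % (p - 1)) with h | h
  · exact ⟨p - 1, by omega, le_rfl, by simp [Nat.ModEq, h]⟩
  · exact ⟨i % (p - 1), h, (Nat.mod_lt _ (by omega)).le, Nat.mod_modEq _ _⟩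

theorem eq_of_modEq {s t : ℕ} (hs : 1 ≤ s) (hs' : s ≤ p - 1) (ht : 1 ≤ t) (ht' : t ≤ p - 1)
    (h : s ≡ t [MOD (p - 1)]) : s = t := by
  have h' : s - 1 ≡ t - 1 [MOD (p - 1)] := by
    refine Nat.ModEq.add_right_cancel' 1 ?_
    rwa [Nat.sub_add_cancel hs, Nat.sub_add_cancel ht]
  have := Nat.ModEq.eq_of_lt_of_lt h' (by omega) (by omega)
  omega

/-- `R·1 + I₁ + ⋯ + I₁^{p-1}` -/
noncomputable def powSum (R : Type u) [CommRing R] (A : Type u) [CommRing A] [HopfAlgebra R A]
    (p : ℕ) (χ : (ZMod p)ˣ →* Rˣ) : Submodule R A :=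
  ⨆ t : Fin p, OortTate.eigenAug R A p χ 1 ^ (t : ℕ)

variable (S : Type u) [CommRing S] [Algebra R S]

/-- the span of the image in the base change -/
noncomputable def spanS (N : Submodule R A) : Submodule S (S ⊗[R] A) :=
  Submodule.span S ((Algebra.TensorProduct.includeRight : A →ₐ[R] S ⊗[R] A) '' N)

theorem spanS_mul_le (N N' : Submodule R A) : spanS S N * spanS S N' ≤ spanS S (N * N') := by
  rw [spanS, spanS, Submodule.span_mul_span, Submodule.span_le]
  rintro _ ⟨_, ⟨x, hx, rfl⟩, _, ⟨y, hy, rfl⟩, rfl⟩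
  exact Submodule.subset_span ⟨x * y, Submodule.mul_mem_mul hx hy, map_mul _ _ _⟩

theorem pow_mem_spanS {y : S ⊗[R] A} (hy : y ∈ spanS S (OortTate.eigenAug R A p χ 1)) (t : ℕ) :
    y ^ t ∈ spanS S (OortTate.eigenAug R A p χ 1 ^ t) := by
  induction t with
  | zero =>
    rw [pow_zero, pow_zero]
    exact Submodule.subset_span ⟨1, Submodule.one_le.1 le_rfl, map_one _⟩
  | succ t ih => rw [pow_succ, pow_succ]; exact spanS_mul_le S _ _ (Submodule.mul_mem_mul ih hy)

variable {u : R} (hu : u * ((p - 1 : ℕ) : R) = 1) (hχ : ∀ m : (ZMod p)ˣ, m ≠ 1 → IsUnit ((χ m : R) - 1))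
  (hrk : ∀ q : PrimeSpectrum R, Module.rankAtStalk (R := R) A q = p)

include hu hχ hrk in
theorem eigenAug_le_spanS (i : ℕ) :
    OortTate.eigenAug S (S ⊗[R] A) p (chiS S χ) i ≤ spanS S (OortTate.eigenAug R A p χ i) := by
  have hp := convPow_eq_one (A := A) hrk
  intro f hf
  rw [← proj'_eq_self (convPow_baseChange S hp) (chiS_isUnit S hχ)
    (u := algebraMap R S u) (by rw [← map_natCast (algebraMap R S), ← map_mul, hu, map_one]) hf]
  clear hf
  induction f using TensorProduct.induction_on with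
  | zero => simp
  | tmul s a =>
    rw [← mul_one s, ← smul_eq_mul, ← TensorProduct.smul_tmul', map_smul, proj'_baseChange S hp]
    exact Submodule.smul_mem _ s (Submodule.subset_span ⟨_, proj'_mem hp i a, rfl⟩)
  | add f g hf hg => rw [map_add]; exact Submodule.add_mem _ hf hg

variable (hχp : ∀ m : (ZMod p)ˣ, ((χ m : Rˣ) : R) - (((m : ZMod p).val : ℕ) : R) ∈ Ideal.span ({(p : R)} : Set R))

include hu hχ hrk hχp in
/-- the fibre over a geometric point -/
theorem exists_generator_fibre (K : Type u) [Field K] [IsAlgClosed K] [Algebra R K] :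
    ∃ y ∈ OortTate.eigenAug K (K ⊗[R] A) p (chiS K χ) 1,
      LinearIndependent K (fun j : Fin p => y ^ (j : ℕ)) ∧
        Submodule.span K (Set.range fun j : Fin p => y ^ (j : ℕ)) = ⊤ := by
  have hfr : Module.finrank K (K ⊗[R] A) = p := by
    let q : PrimeSpectrum K := ⟨⊥, Ideal.isPrime_bot⟩
    exact ((congrFun (Module.rankAtStalk_eq_finrank_of_free (R := K) (M := K ⊗[R] A)) q).symm.trans
      ((Module.rankAtStalk_baseChange (R := R) (M := A) q).trans (hrk _)))
  obtain ⟨y, hy, hli⟩ := exists_eigen_generator (K := K) (A := K ⊗[R] A) hfr (chiS_isUnit K hχ)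
    (u := algebraMap R K u) (by rw [← map_natCast (algebraMap R K), ← map_mul, hu, map_one])
    (chiS_mem_span K hχp)
  exact ⟨y, hy, hli, hli.span_eq_top_of_card_eq_finrank' (by simp [hfr])⟩

include hu hχ hrk hχp in
theorem powSum_eq_top : powSum R A p χ = ⊤ := by
  rw [← Submodule.Quotient.subsingleton_iff, ← Module.support_eq_empty_iff (R := R),
    Set.eq_empty_iff_forall_notMem]
  intro q hq
  rw [Module.mem_support_iff_nontrivial_residueField_tensorProduct] at hq
  let K := AlgebraicClosure q.asIdeal.ResidueField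
  have hnt : Nontrivial (K ⊗[R] (A ⧸ powSum R A p χ)) :=
    (AlgebraTensorModule.cancelBaseChange R q.asIdeal.ResidueField K K
      (A ⧸ powSum R A p χ)).toEquiv.nontrivial_congr.1 inferInstance
  obtain ⟨y, hy, -, hsp⟩ := exists_generator_fibre hu hχ hrk hχp K
  have hy' := eigenAug_le_spanS K hu hχ hrk 1 hy
  let π := (powSum R A p χ).mkQ.baseChange K
  have hker : (⊤ : Submodule K (K ⊗[R] A)) ≤ LinearMap.ker π := by
    rw [← hsp, Submodule.span_le]
    rintro _ ⟨j, rfl⟩
    refine (Submodule.span_le.2 ?_ : spanS K (OortTate.eigenAug R A p χ 1 ^ (j : ℕ)) ≤ LinearMap.ker π)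
      (pow_mem_spanS K hy' _)
    rintro _ ⟨a, ha, rfl⟩
    have : (powSum R A p χ).mkQ a = 0 := by
      rw [Submodule.mkQ_apply, Submodule.Quotient.mk_eq_zero]
      exact Submodule.mem_iSup_of_mem j ha
    simp [π, this]
  obtain ⟨z, hz⟩ := exists_ne (0 : K ⊗[R] (A ⧸ powSum R A p χ))
  obtain ⟨w, rfl⟩ : ∃ w, π w = z := by
    have := LinearMap.lTensor_surjective K (Submodule.mkQ_surjective (powSum R A p χ)) z
    exact this
  exact hz (hker Submodule.mem_top)

include hu hχ hrk hχp in
theorem pow_eigenAug_eq {t : ℕ} (ht : 1 ≤ t) (ht' : t ≤ p - 1) :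
    OortTate.eigenAug R A p χ 1 ^ t = OortTate.eigenAug R A p χ t := by
  refine le_antisymm (pow_le_eigenAug ht) fun f hf => ?_
  have hp := convPow_eq_one (A := A) hrk
  have htlt : t < p := by have := (Fact.out : p.Prime).pos; omega
  have key : (⊤ : Submodule R A) ≤ Submodule.comap (proj' hp χ u t) (OortTate.eigenAug R A p χ 1 ^ t) := by
    rw [← powSum_eq_top hu hχ hrk hχp, powSum, iSup_le_iff]
    intro s g hg
    rw [Submodule.mem_comap]
    rcases Nat.eq_zero_or_pos (s : ℕ) with hs | hs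
    · rw [hs, pow_zero] at hg
      obtain ⟨r, rfl⟩ := Submodule.mem_one.1 hg
      rw [proj', Module.End.mul_apply, augProj_apply, AlgHom.commutes]
      simp
    · have hg' := pow_le_eigenAug (t := (s : ℕ)) hs hg
      by_cases hst : (s : ℕ) = t
      · rw [hst] at hg hg'
        rw [proj'_eq_self hp hχ hu hg']
        exact hg
      · rw [proj'_eq_zero hp hχ hu (fun h => hst (eq_of_modEq hs (by omega) ht ht' h.symm)) hg']
        exact zero_mem _
  rw [← proj'_eq_self hp hχ hu hf]
  exact key Submodule.mem_top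

include hu hχ hrk in
theorem finite_eigenAug (i : ℕ) : Module.Finite R (OortTate.eigenAug R A p χ i) := by
  have hp := convPow_eq_one (A := A) hrk
  exact Module.Finite.of_surjective (LinearMap.codRestrict _ (proj' hp χ u i) fun a => proj'_mem hp i a)
    fun f => ⟨f, Subtype.ext (proj'_eq_self hp hχ hu f.2)⟩

include hu hχ hrk in
theorem projective_eigenAug (i : ℕ) : Module.Projective R (OortTate.eigenAug R A p χ i) := by
  have hp := convPow_eq_one (A := A) hrk
  exact Module.Projective.of_split (OortTate.eigenAug R A p χ i).subtype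
    (LinearMap.codRestrict _ (proj' hp χ u i) fun a => proj'_mem hp i a)
    (LinearMap.ext fun f => Subtype.ext (proj'_eq_self hp hχ hu f.2))

include hu hχ hrk hχp in
theorem rankAtStalk_eigenAug (i : ℕ) (q : PrimeSpectrum R) :
    Module.rankAtStalk (R := R) (OortTate.eigenAug R A p χ i) q = 1 := by
  have hp := convPow_eq_one (A := A) hrk
  haveI := finite_eigenAug hu hχ hrk i
  haveI := projective_eigenAug hu hχ hrk i
  let K := AlgebraicClosure q.asIdeal.ResidueField
  let q' : PrimeSpectrum K := ⟨⊥, Ideal.isPrime_bot⟩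
  have hq : q'.comap (algebraMap R K) = q := by
    ext x
    change algebraMap R K x = 0 ↔ _
    rw [IsScalarTower.algebraMap_apply R q.asIdeal.ResidueField K,
      map_eq_zero_iff _ (algebraMap q.asIdeal.ResidueField K).injective, ← RingHom.mem_ker,
      Ideal.ker_algebraMap_residueField]
  rw [← hq, ← Module.rankAtStalk_baseChange (R := R) (S := K) (M := OortTate.eigenAug R A p χ i),
    Module.rankAtStalk_eq_finrank_of_free]
  simp only [Pi.natCast_apply, Nat.cast_id]
  let I := OortTate.eigenAug R A p χ i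
  let r : A →ₗ[R] I := LinearMap.codRestrict _ (proj' hp χ u i) fun a => proj'_mem hp i a
  let ι : K ⊗[R] I →ₗ[K] K ⊗[R] A := I.subtype.baseChange K
  have hι : Function.Injective ι := by
    refine Function.LeftInverse.injective (g := r.baseChange K) fun z => ?_
    have : r ∘ₗ I.subtype = LinearMap.id := LinearMap.ext fun f => Subtype.ext (proj'_eq_self hp hχ hu f.2)
    rw [← LinearMap.comp_apply, ← LinearMap.baseChange_comp, this, LinearMap.baseChange_id, LinearMap.id_apply]
  have huK : algebraMap R K u * ((p - 1 : ℕ) : K) = 1 := by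
    rw [← map_natCast (algebraMap R K), ← map_mul, hu, map_one]
  obtain ⟨y, hy, hli, hsp⟩ := exists_generator_fibre hu hχ hrk hχp K
  obtain ⟨t, ht, ht', hti⟩ := exists_rep (p := p) i
  have hrange : LinearMap.range ι = OortTate.eigenAug K (K ⊗[R] A) p (chiS K χ) i := by
    refine le_antisymm ?_ ((eigenAug_le_spanS K hu hχ hrk i).trans (Submodule.span_le.2 ?_))
    · rintro _ ⟨z, rfl⟩
      induction z using TensorProduct.induction_on with
      | zero => simp
      | tmul c f =>
        have h := proj'_mem (convPow_baseChange K hp) (χ := chiS K χ) (u := algebraMap R K u) i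
          (c • ((1 : K) ⊗ₜ[R] (f : A)))
        rw [map_smul, proj'_baseChange K hp, proj'_eq_self hp hχ hu f.2, TensorProduct.smul_tmul', smul_eq_mul,
          mul_one] at h
        exact h
      | add z w hz hw => rw [map_add]; exact Submodule.add_mem _ hz hw
    · rintro _ ⟨a, ha, rfl⟩
      exact ⟨1 ⊗ₜ ⟨a, ha⟩, rfl⟩
  have hyt : ∀ s : ℕ, 1 ≤ s → y ^ s ∈ OortTate.eigenAug K (K ⊗[R] A) p (chiS K χ) s := fun s hs =>
    pow_le_eigenAug hs (Submodule.pow_mem_pow _ hy s)
  have htp : t < p := by have := (Fact.out : p.Prime).pos; omega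
  have hspan : OortTate.eigenAug K (K ⊗[R] A) p (chiS K χ) i = K ∙ y ^ t := by
    rw [← eigenAug_congr hti]
    refine le_antisymm (fun f hf => ?_) ((Submodule.span_singleton_le_iff_mem _ _).2 (hyt t ht))
    have key : (⊤ : Submodule K (K ⊗[R] A)) ≤ Submodule.comap
        (proj' (convPow_baseChange K hp) (chiS K χ) (algebraMap R K u) t) (K ∙ y ^ t) := by
      rw [← hsp, Submodule.span_le]
      rintro _ ⟨j, rfl⟩
      simp only [SetLike.mem_coe, Submodule.mem_comap]
      rcases Nat.eq_zero_or_pos (j : ℕ) with hj | hj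
      · rw [hj, pow_zero, proj', Module.End.mul_apply, augProj_apply, map_one, map_one, sub_self, map_zero]
        exact zero_mem _
      · by_cases hjt : (j : ℕ) = t
        · rw [hjt, proj'_eq_self _ (chiS_isUnit K hχ) huK (hyt t ht)]
          exact Submodule.mem_span_singleton_self _
        · rw [proj'_eq_zero _ (chiS_isUnit K hχ) huK
            (fun h => hjt (eq_of_modEq hj (by omega) ht ht' h.symm)) (hyt _ hj)]
          exact zero_mem _
    rw [← proj'_eq_self (convPow_baseChange K hp) (chiS_isUnit K hχ) huK hf]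
    exact key Submodule.mem_top
  rw [← LinearMap.finrank_range_of_inj hι, hrange, hspan, finrank_span_singleton (hli.ne_zero ⟨t, htp⟩)]

end Global

end GrothLib.OT
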