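import Mathlib.FieldTheory.Finite.Basic
import Mathlib.Algebra.Algebra.Basic
import Mathlib.RingTheory.Idempotents
import Mathlib.GroupTheory.SpecificGroups.Cyclic

/-!
Character sums for a `(ZMod p)ˣ`-valued character whose non-trivial values are separated from `1`,
and the averaging idempotents of a representation.
-/

universe u v

set_option linter.style.haveILetI false

namespace GrothLib.OT

variable {p : ℕ} [Fact p.Prime] {R : Type u} [CommRing R]

theorem card_units' : Fintype.card (ZMod p)ˣ = p - 1 := ZMod.card_units p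

theorem sum_units_eq_zero {G : Type*} [Group G] [Fintype G] (φ : G →* Rˣ) (g : G)
    (hg : IsUnit ((φ g : R) - 1)) : ∑ m : G, (φ m : R) = 0 := by
  have h : (φ g : R) * ∑ m : G, (φ m : R) = ∑ m : G, (φ m : R) := by
    rw [Finset.mul_sum]
    exact Fintype.sum_equiv (Equiv.mulLeft g) _ _ fun m => by simp
  have h' : ((φ g : R) - 1) * ∑ m : G, (φ m : R) = 0 := by rw [sub_mul, one_mul, h, sub_self]
  exact hg.mul_right_eq_zero.1 h'

/-- `χ ^ i` -/
def chi (χ : (ZMod p)ˣ →* Rˣ) (i : ℕ) : (ZMod p)ˣ →* Rˣ := χ.comp (powMonoidHom i)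

variable {χ : (ZMod p)ˣ →* Rˣ} (hχ : ∀ m : (ZMod p)ˣ, m ≠ 1 → IsUnit ((χ m : R) - 1))

theorem chi_apply (i : ℕ) (m : (ZMod p)ˣ) : (chi χ i m : R) = (χ m : R) ^ i := by
  simp [chi, map_pow]

theorem pow_eq_of_modEq {i j : ℕ} (h : i ≡ j [MOD (p - 1)]) (m : (ZMod p)ˣ) : (χ m : R) ^ i = (χ m : R) ^ j := by
  rw [← Units.val_pow_eq_pow_val, ← Units.val_pow_eq_pow_val, ← map_pow, ← map_pow]
  have hd : orderOf m ∣ p - 1 := card_units' (p := p) ▸ orderOf_dvd_card
  rw [pow_eq_pow_iff_modEq.2 (Nat.ModEq.of_dvd hd h)]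

include hχ in
theorem sum_chi_mul {i j : ℕ} :
    ∑ m : (ZMod p)ˣ, (χ m⁻¹ : R) ^ i * (χ m : R) ^ j =
      if i ≡ j [MOD (p - 1)] then ((p - 1 : ℕ) : R) else 0 := by
  classical
  have he : ∀ m : (ZMod p)ˣ, (χ m⁻¹ : R) ^ i * (χ m : R) ^ j =
      ((((chi χ i)⁻¹ * chi χ j) m : Rˣ) : R) := fun m => by
    simp [chi, map_pow, map_inv]
  split_ifs with h
  · have : ∀ m : (ZMod p)ˣ, (χ m⁻¹ : R) ^ i * (χ m : R) ^ j = 1 := fun m => by
      rw [← pow_eq_of_modEq h m, ← mul_pow, ← Units.val_mul, ← map_mul, inv_mul_cancel]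
      simp
    rw [Finset.sum_congr rfl fun m _ => this m]
    simp [Nat.totient_prime (Fact.out : p.Prime)]
  · obtain ⟨g, hg⟩ := IsCyclic.exists_generator (α := (ZMod p)ˣ)
    have hord : orderOf g = p - 1 := by
      rw [orderOf_eq_card_of_forall_mem_zpowers hg, Nat.card_eq_fintype_card, card_units']
    simp only [he]
    refine sum_units_eq_zero _ g ?_
    have : ((chi χ i)⁻¹ * chi χ j) g = χ ((g ^ i)⁻¹ * g ^ j) := by
      simp [chi, map_mul, map_inv, map_pow]
    rw [this]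
    refine hχ _ fun e => h ?_
    have e' : g ^ i = g ^ j := by
      rwa [inv_mul_eq_one] at e
    rw [← hord]
    exact pow_eq_pow_iff_modEq.1 e'

include hχ in
theorem sum_pow_range (m : (ZMod p)ˣ) :
    ∑ i : Fin (p - 1), (χ m : R) ^ (i : ℕ) = if m = 1 then ((p - 1 : ℕ) : R) else 0 := by
  split_ifs with h
  · simp [h]
  · refine (hχ m h).mul_right_eq_zero.1 ?_
    rw [Fin.sum_univ_eq_sum_range (fun i => (χ m : R) ^ i), mul_comm, geom_sum_mul,
      pow_eq_of_modEq (j := 0) (by simp [Nat.ModEq]) m]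
    simp

section Idem

variable {B : Type v} [Ring B] [Algebra R B]

/-- the averaging idempotent of a representation -/
noncomputable def idem (ρ : (ZMod p)ˣ →* B) (χ : (ZMod p)ˣ →* Rˣ) (u : R) (i : ℕ) : B :=
  u • ∑ m : (ZMod p)ˣ, ((χ m⁻¹ : Rˣ) : R) ^ i • ρ m

variable (ρ : (ZMod p)ˣ →* B) (u : R)

theorem mul_idem (n : (ZMod p)ˣ) (i : ℕ) : ρ n * idem ρ χ u i = (χ n : R) ^ i • idem ρ χ u i := by
  simp only [idem, mul_smul_comm, Finset.mul_sum, ← map_mul, Finset.smul_sum, smul_smul]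
  refine Fintype.sum_equiv (Equiv.mulLeft n) _ _ fun m => ?_
  congr 1
  simp only [Equiv.coe_mulLeft]
  rw [show m⁻¹ = n * (n * m)⁻¹ by simp, map_mul, Units.val_mul, mul_pow]
  ring

theorem idem_mul (n : (ZMod p)ˣ) (i : ℕ) : idem ρ χ u i * ρ n = (χ n : R) ^ i • idem ρ χ u i := by
  rw [← mul_idem]
  simp only [idem, smul_mul_assoc, Finset.sum_mul, mul_smul_comm, Finset.mul_sum, ← map_mul, mul_comm]

variable {ρ u} (hu : u * ((p - 1 : ℕ) : R) = 1)

include hχ hu in
theorem idem_mul_idem (i j : ℕ) :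
    idem ρ χ u i * idem ρ χ u j = if i ≡ j [MOD (p - 1)] then idem ρ χ u i else 0 := by
  conv_lhs => arg 2; rw [idem]
  simp only [mul_smul_comm, Finset.mul_sum, idem_mul, smul_smul, ← Finset.sum_smul]
  rw [← Finset.mul_sum, sum_chi_mul hχ, mul_ite, mul_zero, ite_smul, zero_smul]
  by_cases h : i ≡ j [MOD (p - 1)]
  · rw [if_pos h, if_pos h.symm, hu, one_smul]
  · rw [if_neg h, if_neg (fun e => h e.symm)]

include hχ hu in
theorem sum_idem : ∑ i : Fin (p - 1), idem ρ χ u (i : ℕ) = 1 := by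
  simp only [idem, ← Finset.smul_sum]
  rw [Finset.sum_comm]
  simp only [← Finset.sum_smul, sum_pow_range hχ]
  rw [Finset.sum_eq_single 1 (fun m _ hm => by simp [hm]) (by simp)]
  simp [smul_smul, hu]

theorem idem_congr {i j : ℕ} (h : i ≡ j [MOD (p - 1)]) : idem ρ χ u i = idem ρ χ u j := by
  simp only [idem, pow_eq_of_modEq h]

end Idem

end GrothLib.OT
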