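import Groth.Agent.Lib.OT.Moments
import Mathlib.RingTheory.Bialgebra.Equiv

/-!
A group of order `p` is determined by the first eigenspace with its two `p`-th power maps.
-/

universe u

set_option linter.style.haveILetI false

open WithConv TensorProduct

namespace GrothLib.OT

theorem exists_factor {R B C D : Type*} [CommSemiring R] [Ring B] [Algebra R B] [CommRing C] [Algebra R C]
    [CommRing D] [Algebra R D] (L : B →ₐ[R] C) (hL : Function.Surjective L) (L' : B →ₐ[R] D)
    (h : ∀ z, L z = 0 → L' z = 0) : ∃ Φ : C →ₐ[R] D, ∀ z, Φ (L z) = L' z := by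
  have hc : ∀ z z', L z = L z' → L' z = L' z' := fun z z' e => by
    rw [← sub_eq_zero, ← map_sub]
    exact h _ (by rw [map_sub, e, sub_self])
  let s := Function.surjInv hL
  have hs : ∀ c, L (s c) = c := Function.surjInv_eq hL
  refine ⟨{ toFun := fun c => L' (s c)
            map_one' := (hc _ _ (by rw [hs, map_one])).trans (map_one L')
            map_mul' := fun a b => (hc _ _ (by rw [hs, map_mul, hs, hs])).trans (map_mul L' _ _)
            map_zero' := (hc _ _ (by rw [hs, map_zero])).trans (map_zero L')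
            map_add' := fun a b => (hc _ _ (by rw [hs, map_add, hs, hs])).trans (map_add L' _ _)
            commutes' := fun r => (hc _ _ (by rw [hs, AlgHom.commutes])).trans (AlgHom.commutes L' r) },
    fun z => hc _ _ (hs _)⟩

variable {R : Type u} [CommRing R] {p : ℕ} [Fact p.Prime] {χ : (ZMod p)ˣ →* Rˣ} {u : R}
  (hu : u * ((p - 1 : ℕ) : R) = 1)
  (hχ : ∀ m : (ZMod p)ˣ, m ≠ 1 → IsUnit ((χ m : R) - 1))
  (hχp : ∀ m : (ZMod p)ˣ, ((χ m : Rˣ) : R) - (((m : ZMod p).val : ℕ) : R) ∈ Ideal.span ({(p : R)} : Set R))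
  {A : Type u} [CommRing A] [HopfAlgebra R A] [Module.Finite R A] [Module.Projective R A]
  (hrk : ∀ q : PrimeSpectrum R, Module.rankAtStalk (R := R) A q = p)
  {A' : Type u} [CommRing A'] [HopfAlgebra R A'] [Module.Finite R A'] [Module.Projective R A']
  (hrk' : ∀ q : PrimeSpectrum R, Module.rankAtStalk (R := R) A' q = p)

include hu hχ hrk hχp

/-- an algebra map out of a group of order `p` given on the first eigenspace -/
theorem exists_algHom (θ : OortTate.eigenAug R A p χ 1 →ₗ[R] A')
    (hθ : ∀ (f : Fin p → OortTate.eigenAug R A p χ 1) (g : OortTate.eigenAug R A p χ 1),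
      (g : A) = ∏ i, (f i : A) → θ g = ∏ i, θ (f i)) :
    ∃ Φ : A →ₐ[R] A', ∀ x : OortTate.eigenAug R A p χ 1, Φ (x : A) = θ x := by
  obtain ⟨Φ, hΦ⟩ := exists_factor (presMap R A p χ) (presMap_surjective hu hχ hrk hχp)
    (TensorAlgebra.lift R θ) fun z hz => by
      have hle : presRel R A p χ ≤ RingHom.ker (TensorAlgebra.lift R θ) := by
        rw [Ideal.span_le]
        rintro _ ⟨f, g, hg, rfl⟩
        rw [SetLike.mem_coe, RingHom.mem_ker, map_sub, map_list_prod, List.map_ofFn, List.prod_ofFn,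
          TensorAlgebra.lift_ι_apply, hθ f g hg, sub_eq_zero]
        exact Finset.prod_congr rfl fun i _ => by simp
      exact hle (ker_presMap hu hχ hrk hχp ▸ (RingHom.mem_ker.2 hz))
  exact ⟨Φ, fun x => by simpa using hΦ (TensorAlgebra.ι R x)⟩

theorem algHom_ext_eigen {B : Type*} [CommRing B] [Algebra R B] {f g : A →ₐ[R] B}
    (h : ∀ x : OortTate.eigenAug R A p χ 1, f (x : A) = g (x : A)) : f = g := by
  refine AlgHom.ext fun a => ?_
  obtain ⟨z, rfl⟩ := presMap_surjective hu hχ hrk hχp a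
  exact DFunLike.congr_fun (TensorAlgebra.hom_ext (f := f.comp (presMap R A p χ)) (g := g.comp (presMap R A p χ))
    (LinearMap.ext fun x => by simpa using h x)) z

include hrk'

theorem exists_algEquiv (θ : OortTate.eigenAug R A p χ 1 ≃ₗ[R] OortTate.eigenAug R A' p χ 1)
    (hθ : ∀ (f : Fin p → OortTate.eigenAug R A p χ 1) (g : OortTate.eigenAug R A p χ 1),
      (g : A) = ∏ i, (f i : A) → ((θ g : OortTate.eigenAug R A' p χ 1) : A') = ∏ i, ((θ (f i)) : A')) :
    ∃ Φ : A ≃ₐ[R] A', ∀ x : OortTate.eigenAug R A p χ 1, Φ (x : A) = (θ x : A') := by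
  obtain ⟨Φ, hΦ⟩ := exists_algHom hu hχ hχp hrk
    ((OortTate.eigenAug R A' p χ 1).subtype ∘ₗ θ.toLinearMap) hθ
  have hp2 := (Fact.out : p.Prime).two_le
  obtain ⟨Φ', hΦ'⟩ := exists_algHom hu hχ hχp hrk'
    ((OortTate.eigenAug R A p χ 1).subtype ∘ₗ θ.symm.toLinearMap) fun f g hg => by
      have hmem : (∏ i, (θ.symm (f i) : A)) ∈ OortTate.eigenAug R A p χ 1 := by
        have h := prod_mem_eigenAug (R := R) (χ := χ) Finset.univ ⟨⟨0, by omega⟩, Finset.mem_univ _⟩
          (fun i => (θ.symm (f i) : A)) fun i _ => (θ.symm (f i)).2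
        rwa [Finset.card_univ, Fintype.card_fin,
          eigenAug_congr (j := 1) ((Nat.modEq_iff_dvd' (by omega)).2 dvd_rfl).symm] at h
      have h := hθ (fun i => θ.symm (f i)) ⟨_, hmem⟩ rfl
      simp only [LinearEquiv.apply_symm_apply, ← hg] at h
      simp [← Subtype.ext h]
  refine ⟨AlgEquiv.ofAlgHom Φ Φ' (algHom_ext_eigen hu hχ hχp hrk' fun x => ?_)
    (algHom_ext_eigen hu hχ hχp hrk fun x => ?_), hΦ⟩
  · change Φ (Φ' (x : A')) = (x : A')
    rw [hΦ']
    simpa using hΦ (θ.symm x)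
  · change Φ' (Φ (x : A)) = (x : A)
    rw [hΦ]
    simpa using hΦ' (θ x)

variable [Coalgebra.IsCocomm R A] [Coalgebra.IsCocomm R A']

theorem nonempty_bialgEquiv (θ : OortTate.eigenAug R A p χ 1 ≃ₗ[R] OortTate.eigenAug R A' p χ 1)
    (hθ : ∀ (f : Fin p → OortTate.eigenAug R A p χ 1) (g : OortTate.eigenAug R A p χ 1),
      (g : A) = ∏ i, (f i : A) → ((θ g : OortTate.eigenAug R A' p χ 1) : A') = ∏ i, ((θ (f i)) : A'))
    (hθD : ∀ (φ : Fin p → OortTate.eigenAug R (CartDual.D R A) p χ 1)
      (φ' : Fin p → OortTate.eigenAug R (CartDual.D R A') p χ 1)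
      (ψ : OortTate.eigenAug R (CartDual.D R A) p χ 1) (ψ' : OortTate.eigenAug R (CartDual.D R A') p χ 1),
      (∀ i, ∀ x : OortTate.eigenAug R A p χ 1,
        CartDual.toDual R A (φ i : CartDual.D R A) (x : A) =
          CartDual.toDual R A' (φ' i : CartDual.D R A') ((θ x : OortTate.eigenAug R A' p χ 1) : A')) →
      (ψ : CartDual.D R A) = ∏ i, (φ i : CartDual.D R A) →
      (ψ' : CartDual.D R A') = ∏ i, (φ' i : CartDual.D R A') →
      ∀ x : OortTate.eigenAug R A p χ 1,
        CartDual.toDual R A (ψ : CartDual.D R A) (x : A) =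
          CartDual.toDual R A' (ψ' : CartDual.D R A') ((θ x : OortTate.eigenAug R A' p χ 1) : A')) :
    Nonempty (A ≃ₐc[R] A') := by
  classical
  obtain ⟨Φ, hΦ⟩ := exists_algEquiv hu hχ hχp hrk hrk' θ hθ
  have hp := convPow_eq_one (A := A) hrk
  have hp' := convPow_eq_one (A := A') hrk'
  have hp2 := (Fact.out : p.Prime).two_le
  have hmodp : p ≡ 1 [MOD (p - 1)] := ((Nat.modEq_iff_dvd' (by omega)).2 dvd_rfl).symm
  let T : CartDual.D R A' →ₗ[R] CartDual.D R A :=
    (CartDual.toDual R A).symm.toLinearMap ∘ₗ Φ.toLinearMap.dualMap ∘ₗ (CartDual.toDual R A').toLinearMap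
  have hT : ∀ ζ a, T ζ a = ζ (Φ a) := fun ζ a => rfl
  have hεΦ : ∀ a, Bialgebra.counitAlgHom R A' (Φ a) = Bialgebra.counitAlgHom R A a := fun a => by
    refine DFunLike.congr_fun (algHom_ext_eigen hu hχ hχp hrk
      (f := (Bialgebra.counitAlgHom R A').comp Φ.toAlgHom) (g := Bialgebra.counitAlgHom R A) fun x => ?_) a
    change Bialgebra.counitAlgHom R A' (Φ (x : A)) = _
    rw [hΦ, (mem_eigenAug.1 (θ x).2).1, (mem_eigenAug.1 x.2).1]
  have hT1 : T 1 = 1 := WithConv.ext (LinearMap.ext fun a => by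
    change (1 : CartDual.D R A') (Φ a) = _
    simpa using hεΦ a)
  -- functionals are tested on products of first eigenvectors
  have htest : ∀ ζ ζ' : CartDual.D R A,
      (∀ t : ℕ, t ≤ p - 1 → ∀ y : Fin t → A, (∀ k, y k ∈ OortTate.eigenAug R A p χ 1) →
        ζ (∏ k, y k) = ζ' (∏ k, y k)) → ζ = ζ' := by
    intro ζ ζ' h
    refine WithConv.ext (LinearMap.ext fun a => sub_eq_zero.1 ?_)
    have key : (⊤ : Submodule R A) ≤ LinearMap.ker (ζ.ofConv - ζ'.ofConv) := by
      rw [← powSum_eq_top hu hχ hrk hχp, powSum, iSup_le_iff]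
      intro t
      rw [← Submodule.span_eq (OortTate.eigenAug R A p χ 1), Submodule.span_pow, Submodule.span_le]
      intro b hb
      obtain ⟨g, rfl⟩ := Set.mem_pow.1 hb
      rw [SetLike.mem_coe, LinearMap.mem_ker, LinearMap.sub_apply, sub_eq_zero, List.prod_ofFn]
      exact h t (by have := t.2; omega) _ fun k => (g k).2
    exact key Submodule.mem_top
  have hmemA : ∀ {t : ℕ} (y : Fin t → A), 1 ≤ t → (∀ k, y k ∈ OortTate.eigenAug R A p χ 1) →
      ∏ k, y k ∈ OortTate.eigenAug R A p χ t := fun {t} y ht hy => by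
    have h := prod_mem_eigenAug (R := R) (χ := χ) Finset.univ ⟨⟨0, ht⟩, Finset.mem_univ _⟩ y fun k _ => hy k
    rwa [Finset.card_univ, Fintype.card_fin] at h
  have hmemA' : ∀ {t : ℕ} (y : Fin t → A), 1 ≤ t → (∀ k, y k ∈ OortTate.eigenAug R A p χ 1) →
      Φ (∏ k, y k) ∈ OortTate.eigenAug R A' p χ t := fun {t} y ht hy => by
    rw [map_prod]
    have h := prod_mem_eigenAug (R := R) (χ := χ) (A := A') Finset.univ ⟨⟨0, ht⟩, Finset.mem_univ _⟩
      (fun k => Φ (y k)) fun k _ => by
        have hy' : Φ (y k) = (θ ⟨y k, hy k⟩ : A') := hΦ ⟨y k, hy k⟩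
        rw [hy']
        exact (θ ⟨y k, hy k⟩).2
    rwa [Finset.card_univ, Fintype.card_fin] at h
  -- the transpose respects the eigenspaces
  have hTmem : ∀ (s : ℕ) (ζ : CartDual.D R A'), ζ ∈ OortTate.eigenAug R (CartDual.D R A') p χ s →
      ∀ t : ℕ, t ≤ p - 1 → ∀ y : Fin t → A, (∀ k, y k ∈ OortTate.eigenAug R A p χ 1) →
        (t = 0 ∨ ¬ s ≡ t [MOD (p - 1)]) → T ζ (∏ k, y k) = 0 := by
    intro s ζ hζ t ht y hy hst
    rw [hT]
    by_cases ht0 : t = 0
    · subst ht0
      simp only [Finset.univ_eq_empty, Finset.prod_empty, map_one]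
      exact (mem_eigenAug.1 hζ).1
    · exact pairing_eq_zero hu hχ hp' (hst.resolve_left ht0) hζ (hmemA' y (by omega) hy)
  have hTI : ∀ η, η ∈ OortTate.eigenAug R (CartDual.D R A') p χ 1 →
      T η ∈ OortTate.eigenAug R (CartDual.D R A) p χ 1 := by
    intro η hη
    obtain ⟨η₀, hη₀⟩ := (dual_restrict_bijective hp hχ hu 1).2
      (((CartDual.toDual R A) (T η)).comp (OortTate.eigenAug R A p χ 1).subtype)
    convert η₀.2
    refine htest _ _ fun t ht y hy => ?_
    by_cases ht1 : t = 1
    · subst ht1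
      simp only [Finset.univ_unique, Fin.default_eq_zero, Finset.prod_singleton]
      exact (LinearMap.congr_fun hη₀ ⟨y 0, hy 0⟩).symm
    · have h1 : t = 0 ∨ ¬ 1 ≡ t [MOD (p - 1)] := by
        rcases Nat.eq_zero_or_pos t with h | h
        · exact Or.inl h
        · exact Or.inr fun e => ht1 (eq_of_modEq le_rfl (by omega) h ht e).symm
      rw [hTmem 1 η hη t ht y hy h1]
      rcases Nat.eq_zero_or_pos t with rfl | ht0
      · simp only [Finset.univ_eq_empty, Finset.prod_empty]
        exact ((mem_eigenAug.1 η₀.2).1).symm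
      · exact (pairing_eq_zero hu hχ hp (h1.resolve_left ht0.ne') η₀.2 (hmemA y ht0 hy)).symm
  have hTprod : ∀ t : ℕ, 1 ≤ t → t ≤ p → ∀ η : Fin t → CartDual.D R A',
      (∀ k, η k ∈ OortTate.eigenAug R (CartDual.D R A') p χ 1) → T (∏ k, η k) = ∏ k, T (η k) := by
    intro t ht htp η hη
    have hprodD' : ∏ k, η k ∈ OortTate.eigenAug R (CartDual.D R A') p χ t := by
      have h := prod_mem_eigenAug (R := R) (χ := χ) (A := CartDual.D R A') Finset.univ
        ⟨⟨0, ht⟩, Finset.mem_univ _⟩ η fun k _ => hη k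
      rwa [Finset.card_univ, Fintype.card_fin] at h
    have hprodD : ∏ k, T (η k) ∈ OortTate.eigenAug R (CartDual.D R A) p χ t := by
      have h := prod_mem_eigenAug (R := R) (χ := χ) (A := CartDual.D R A) Finset.univ
        ⟨⟨0, ht⟩, Finset.mem_univ _⟩ (fun k => T (η k)) fun k _ => hTI _ (hη k)
      rwa [Finset.card_univ, Fintype.card_fin] at h
    refine htest _ _ fun s hs y hy => ?_
    rcases Nat.eq_zero_or_pos s with rfl | hs0
    · rw [hTmem t _ hprodD' 0 hs y hy (Or.inl rfl)]
      simp only [Finset.univ_eq_empty, Finset.prod_empty]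
      exact ((mem_eigenAug.1 hprodD).1).symm
    by_cases hst : t ≡ s [MOD (p - 1)]
    swap
    · rw [hTmem t _ hprodD' s hs y hy (Or.inr hst)]
      exact (pairing_eq_zero hu hχ hp hst hprodD (hmemA y hs0 hy)).symm
    rcases Nat.lt_or_ge t p with htlt | htge
    · obtain rfl : t = s := eq_of_modEq ht (by omega) hs0 hs hst
      rw [hT, map_prod,
        pairing_prod (A := A') hu hχ hχp hrk' ht hs η hη (fun k => Φ (y k)) (fun k => by
          have hy' : Φ (y k) = (θ ⟨y k, hy k⟩ : A') := hΦ ⟨y k, hy k⟩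
          rw [hy']
          exact (θ ⟨y k, hy k⟩).2),
        pairing_prod (A := A) hu hχ hχp hrk ht hs (fun k => T (η k)) (fun k => hTI _ (hη k)) y hy]
      rfl
    · obtain rfl : t = p := le_antisymm htp htge
      obtain rfl : s = 1 := eq_of_modEq hs0 hs le_rfl (by omega) (hst.symm.trans hmodp)
      simp only [Finset.univ_unique, Fin.default_eq_zero, Finset.prod_singleton]
      have h := hθD (fun k => ⟨T (η k), hTI _ (hη k)⟩) (fun k => ⟨η k, hη k⟩)
        ⟨∏ k, T (η k), by rwa [eigenAug_congr hmodp] at hprodD⟩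
        ⟨∏ k, η k, by rwa [eigenAug_congr hmodp] at hprodD'⟩
        (fun k x => by
          change η k (Φ (x : A)) = η k (θ x : A')
          rw [hΦ])
        rfl rfl ⟨y 0, hy 0⟩
      simp only [CartDual.toDual_apply] at h
      rw [hT, h]
      exact congrArg (∏ k, η k).ofConv (hΦ ⟨y 0, hy 0⟩)
  -- the transpose is multiplicative
  have hmulI : ∀ η, η ∈ OortTate.eigenAug R (CartDual.D R A') p χ 1 → ∀ ζ, T (η * ζ) = T η * T ζ := by
    intro η hη ζ
    have key : (⊤ : Submodule R (CartDual.D R A')) ≤ LinearMap.ker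
        (T ∘ₗ LinearMap.mulLeft R η - LinearMap.mulLeft R (T η) ∘ₗ T) := by
      rw [← dual_powSum_eq_top (A := A') hu hχ hχp hp', powSum, iSup_le_iff]
      intro t
      rw [← Submodule.span_eq (OortTate.eigenAug R (CartDual.D R A') p χ 1), Submodule.span_pow, Submodule.span_le]
      intro b hb
      obtain ⟨g, rfl⟩ := Set.mem_pow.1 hb
      rw [SetLike.mem_coe, LinearMap.mem_ker, LinearMap.sub_apply, sub_eq_zero, List.prod_ofFn,
        LinearMap.comp_apply (f := T), LinearMap.comp_apply (g := T), LinearMap.mulLeft_apply, LinearMap.mulLeft_apply]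
      have h := hTprod ((t : ℕ) + 1) (by omega) (by have := t.2; omega)
        (Fin.cons η fun k => (g k : CartDual.D R A'))
        (Fin.cases (by simpa using hη) fun k => by simpa using (g k).2)
      rw [Fin.prod_univ_succ, Fin.prod_univ_succ] at h
      simp only [Fin.cons_zero, Fin.cons_succ] at h
      rw [h]
      refine congrArg (T η * ·) ?_
      rcases Nat.eq_zero_or_pos (t : ℕ) with ht | ht
      · haveI : IsEmpty (Fin (t : ℕ)) := by rw [ht]; infer_instance
        simp [hT1]
      · exact (hTprod (t : ℕ) ht (by have := t.2; omega) _ fun k => (g k).2).symm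
    exact sub_eq_zero.1 (key (Submodule.mem_top (x := ζ)))
  have hmul : ∀ η ζ, T (η * ζ) = T η * T ζ := by
    have hprop : ∀ t : ℕ, ∀ η ∈ OortTate.eigenAug R (CartDual.D R A') p χ 1 ^ t, ∀ ζ, T (η * ζ) = T η * T ζ := by
      intro t
      induction t with
      | zero =>
        intro η hη ζ
        rw [pow_zero, Submodule.mem_one] at hη
        obtain ⟨r, rfl⟩ := hη
        rw [← Algebra.smul_def, map_smul, Algebra.algebraMap_eq_smul_one, map_smul, hT1, smul_mul_assoc, one_mul]
      | succ t ih =>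
        intro η hη ζ
        rw [pow_succ'] at hη
        induction hη using Submodule.mul_induction_on' with
        | mem_mul_mem a ha b hb => rw [mul_assoc, hmulI a ha, ih b hb, hmulI a ha, mul_assoc]
        | add a _ b _ ha hb => rw [add_mul, map_add, ha, hb, map_add, add_mul]
    intro η ζ
    have key : (⊤ : Submodule R (CartDual.D R A')) ≤ LinearMap.ker
        (T ∘ₗ LinearMap.mulRight R ζ - LinearMap.mulRight R (T ζ) ∘ₗ T) := by
      rw [← dual_powSum_eq_top (A := A') hu hχ hχp hp', powSum, iSup_le_iff]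
      exact fun t η hη => by
        rw [LinearMap.mem_ker, LinearMap.sub_apply, sub_eq_zero]
        exact hprop _ η hη ζ
    exact sub_eq_zero.1 (key (Submodule.mem_top (x := η)))
  -- hence `Φ` respects the comultiplication
  have hcomul : (Algebra.TensorProduct.map Φ.toAlgHom Φ.toAlgHom).comp (Bialgebra.comulAlgHom R A) =
      (Bialgebra.comulAlgHom R A').comp Φ.toAlgHom := by
    refine AlgHom.ext fun a => sub_eq_zero.1 ((Module.forall_dual_apply_eq_zero_iff R _).1 fun φ => ?_)
    obtain ⟨y, rfl⟩ := (CartDual.ev₂ R A').surjective φ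
    rw [map_sub, sub_eq_zero]
    induction y using TensorProduct.induction_on with
    | zero => simp
    | add y z hy hz => simp only [map_add, LinearMap.add_apply, hy, hz]
    | tmul η ζ =>
      have h := congrArg (fun w : CartDual.D R A => w.ofConv a) (hmul η ζ)
      simp only [hT, LinearMap.convMul_apply] at h
      rw [CartDual.ev₂_tmul_eq', LinearMap.comp_apply, LinearMap.comp_apply]
      refine Eq.trans ?_ h.symm
      simp only [AlgHom.comp_apply, Bialgebra.comulAlgHom_apply]
      induction Coalgebra.comul (R := R) a using TensorProduct.induction_on with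
      | zero => simp
      | tmul b c => simp [hT]
      | add b c hb hc => simp only [map_add, hb, hc]
  exact ⟨BialgEquiv.ofAlgEquiv Φ (AlgHom.ext hεΦ) hcomul⟩

end GrothLib.OT
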