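import Groth.Agent.Lib.OT.Eigen
import Groth.Prelude.Def_CartDual

/-!
Power maps and eigenspaces on the dual Hopf algebra are the transposes of those on the algebra.
-/

universe u

set_option linter.style.haveILetI false

open WithConv TensorProduct

namespace GrothLib.OT

variable {R : Type u} [CommRing R] {A : Type u} [CommRing A] [HopfAlgebra R A] [Coalgebra.IsCocomm R A]
  [Module.Finite R A] [Module.Projective R A]

theorem powConv_succ_apply (B : Type u) [CommRing B] [HopfAlgebra R B] (n : ℕ) (b : B) :
    SGA3b.powConv R B (n + 1) b = LinearMap.mul' R B (TensorProduct.map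
      (SGA3b.powConv R B n).toLinearMap LinearMap.id (Coalgebra.comul (R := R) b)) := by
  simp only [SGA3b.powConv, pow_succ]
  refine (AlgHom.convMul_apply _ _ _).trans ?_
  induction Coalgebra.comul (R := R) b using TensorProduct.induction_on with
  | zero => simp
  | tmul x y => simp
  | add x y hx hy => simp only [map_add, hx, hy]

theorem powConv_dual (n : ℕ) (x : CartDual.D R A) (a : A) :
    (SGA3b.powConv R (CartDual.D R A) n x) a = x (SGA3b.powConv R A n a) := by
  induction n generalizing x a with
  | zero =>
    rw [powConv_zero_apply, powConv_zero_apply]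
    simp [Algebra.algebraMap_eq_smul_one, mul_comm]
  | succ n ih =>
    have key : ∀ y : CartDual.D R A ⊗[R] CartDual.D R A,
        (LinearMap.mul' R _ (TensorProduct.map (SGA3b.powConv R (CartDual.D R A) n).toLinearMap LinearMap.id y)) a =
        CartDual.ev₂ R A y
          (TensorProduct.map (SGA3b.powConv R A n).toLinearMap LinearMap.id (Coalgebra.comul (R := R) a)) := by
      intro y
      induction y using TensorProduct.induction_on with
      | zero => simp
      | add y z hy hz => simp only [map_add, WithConv.ofConv_add, LinearMap.add_apply, hy, hz]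
      | tmul x z =>
        rw [TensorProduct.map_tmul, LinearMap.mul'_apply, LinearMap.convMul_apply]
        induction Coalgebra.comul (R := R) a using TensorProduct.induction_on with
        | zero => simp
        | tmul b c => simp [ih]
        | add b c hb hc => simp only [map_add, hb, hc]
    rw [powConv_succ_apply, key, powConv_succ_apply]
    induction TensorProduct.map (SGA3b.powConv R A n).toLinearMap LinearMap.id (Coalgebra.comul (R := R) a)
      using TensorProduct.induction_on with
    | zero => simp
    | tmul b c => simp
    | add b c hb hc => simp only [map_add, hb, hc]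

variable {p : ℕ} [Fact p.Prime]

theorem convPow_dual (hp : toConv (AlgHom.id R A) ^ p = 1) :
    toConv (AlgHom.id R (CartDual.D R A)) ^ p = 1 := by
  refine WithConv.ext (AlgHom.ext fun x => WithConv.ext (LinearMap.ext fun a => ?_))
  have h := powConv_dual (R := R) p x a
  simp only [SGA3b.powConv, hp] at h
  refine h.trans ?_
  simp [Algebra.algebraMap_eq_smul_one, mul_comm]

variable (hp : toConv (AlgHom.id R A) ^ p = 1) {χ : (ZMod p)ˣ →* Rˣ} {u : R}

theorem augProj_dual (x : CartDual.D R A) (a : A) :
    (augProj R (CartDual.D R A) x) a = x (augProj R A a) := by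
  rw [augProj_apply, augProj_apply, map_sub]
  simp [Algebra.algebraMap_eq_smul_one, mul_comm]

theorem proj'_dual (i : ℕ) (x : CartDual.D R A) (a : A) :
    (proj' (convPow_dual hp) χ u i x) a = x (proj' hp χ u i a) := by
  have h := commute_idem_augProj (convPow_dual hp) χ u i
  rw [proj', h.eq, Module.End.mul_apply, augProj_dual, proj', Module.End.mul_apply]
  simp [idem, LinearMap.smul_apply, LinearMap.sum_apply, rho_apply, powConv_dual, WithConv.ofConv_sum]

variable (hχ : ∀ m : (ZMod p)ˣ, m ≠ 1 → IsUnit ((χ m : R) - 1)) (hu : u * ((p - 1 : ℕ) : R) = 1)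

include hp hχ hu

theorem dual_eigenAug_eq_zero_of_eq_zero {i : ℕ} {x : CartDual.D R A}
    (hx : x ∈ OortTate.eigenAug R (CartDual.D R A) p χ i)
    (h : ∀ a ∈ OortTate.eigenAug R A p χ i, x a = 0) : x = 0 := by
  refine WithConv.ext (LinearMap.ext fun a => ?_)
  rw [← proj'_eq_self (convPow_dual hp) hχ hu hx, proj'_dual hp]
  exact h _ (proj'_mem hp i a)

theorem dual_restrict_bijective (i : ℕ) :
    Function.Bijective (fun f : OortTate.eigenAug R (CartDual.D R A) p χ i =>
      ((CartDual.toDual R A) (f : CartDual.D R A)).comp (OortTate.eigenAug R A p χ i).subtype) := by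
  refine ⟨fun f g h => ?_, fun φ => ?_⟩
  · rw [← sub_eq_zero]
    refine Subtype.ext (dual_eigenAug_eq_zero_of_eq_zero hp hχ hu (f - g).2 fun a ha => ?_)
    have h1 := LinearMap.congr_fun h ⟨a, ha⟩
    simp only [LinearMap.comp_apply, Submodule.subtype_apply, CartDual.toDual_apply] at h1
    simp [h1]
  · let x : CartDual.D R A :=
      toConv (φ ∘ₗ LinearMap.codRestrict _ (proj' hp χ u i) fun a => proj'_mem hp i a)
    refine ⟨⟨proj' (convPow_dual hp) χ u i x, proj'_mem _ i x⟩, LinearMap.ext fun a => ?_⟩
    change (proj' (convPow_dual hp) χ u i x) (a : A) = φ a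
    rw [proj'_dual hp, proj'_eq_self hp hχ hu a.2]
    exact congrArg φ (Subtype.ext (proj'_eq_self hp hχ hu a.2))

end GrothLib.OT
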