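import Groth.Agent.Lib.OT.Eigen
import Groth.Agent.Lib.Hopf.OrderPrime
import Mathlib.LinearAlgebra.Vandermonde
import Mathlib.LinearAlgebra.Dual.Lemmas

/-!
A group of order `p` over an algebraically closed field: the algebra is generated by one element of
the first eigenspace.
-/

universe u

set_option linter.style.haveILetI false

open WithConv TensorProduct

namespace GrothLib.OT

open GrothLib.Hopf GrothLib.Hopf.HeightOne GrothLib.Hopf.OrderPrime GrothLib.Hopf.FiniteRank

variable {K : Type u} [Field K] [IsAlgClosed K] {A : Type u} [CommRing A] [HopfAlgebra K A]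

omit [IsAlgClosed K] in
theorem linearIndependent_pow_of_nilpotent {n : ℕ} {y : A} (h0 : y ^ n = 0)
    (h1 : y ^ (n - 1) ≠ 0) : LinearIndependent K (fun j : Fin n => y ^ (j : ℕ)) := by
  classical
  rw [Fintype.linearIndependent_iff]
  intro c hc
  by_contra hnz
  push Not at hnz
  let S := Finset.univ.filter fun i : Fin n => c i ≠ 0
  have hS : S.Nonempty := by obtain ⟨i, hi⟩ := hnz; exact ⟨i, by simp [S, hi]⟩
  let i₀ := S.min' hS
  have hi₀ : c i₀ ≠ 0 := (Finset.mem_filter.1 (S.min'_mem hS)).2
  have h := congrArg (fun a => y ^ (n - 1 - (i₀ : ℕ)) * a) hc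
  simp only [mul_zero, Finset.mul_sum, mul_smul_comm, ← pow_add] at h
  rw [Finset.sum_eq_single i₀] at h
  · rw [Nat.sub_add_cancel (by omega)] at h
    exact (smul_eq_zero.1 h).elim hi₀ h1
  · intro i _ hne
    by_cases hci : c i = 0
    · simp [hci]
    · have hlt : i₀ < i := lt_of_le_of_ne (S.min'_le i (by simp [S, hci])) (Ne.symm hne)
      have : n ≤ n - 1 - (i₀ : ℕ) + (i : ℕ) := by
        have := Fin.lt_def.1 hlt
        omega
      rw [pow_eq_zero_of_le this h0, smul_zero]
  · simp

omit [IsAlgClosed K] in
theorem mk_powConv (n : ℕ) (a : A) :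
    Ideal.Quotient.mkₐ K (aug K A ^ 2) (SGA3b.powConv K A n a) =
      algebraMap K _ (Bialgebra.counitAlgHom K A a) +
        (n : K) • Ideal.Quotient.mkₐ K (aug K A ^ 2) (augProj K A a) := by
  set q := Ideal.Quotient.mkₐ K (aug K A ^ 2)
  induction n generalizing a with
  | zero =>
    rw [powConv_zero_apply, AlgHom.commutes, Nat.cast_zero, zero_smul, add_zero]
  | succ n ih =>
    have hz : ∀ b c : A, q (augProj K A b) * q (augProj K A c) = 0 := fun b c => by
      rw [← map_mul, Ideal.Quotient.mkₐ_eq_mk, Ideal.Quotient.eq_zero_iff_mem, pow_two]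
      exact Ideal.mul_mem_mul (counit_augProj b) (counit_augProj c)
    have hb : ∀ b : A, q b = algebraMap K _ (Bialgebra.counitAlgHom K A b) + q (augProj K A b) := fun b => by
      rw [augProj_apply, map_sub, AlgHom.commutes, add_sub_cancel]
    have key : ∀ z : A ⊗[K] A, q (LinearMap.mul' K A (TensorProduct.map
          (SGA3b.powConv K A n).toLinearMap LinearMap.id z)) =
        algebraMap K _ (Bialgebra.counitAlgHom K A (LinearMap.mul' K A z)) +
          (n : K) • q (augProj K A (TensorProduct.rid K A ((Coalgebra.counit (R := K)).lTensor A z))) +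
          q (augProj K A (TensorProduct.lid K A ((Coalgebra.counit (R := K)).rTensor A z))) := by
      intro z
      induction z using TensorProduct.induction_on with
      | zero => simp
      | tmul b c =>
        simp only [TensorProduct.map_tmul, LinearMap.mul'_apply, map_mul, AlgHom.toLinearMap_apply,
          LinearMap.id_apply, ih, LinearMap.lTensor_tmul, LinearMap.rTensor_tmul, TensorProduct.rid_tmul,
          TensorProduct.lid_tmul, map_smul, ← Bialgebra.counitAlgHom_apply (R := K)]
        conv_lhs => rw [hb c]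
        rw [add_mul, mul_add, mul_add, smul_mul_assoc, smul_mul_assoc, hz, smul_zero, add_zero,
          Algebra.algebraMap_eq_smul_one, Algebra.algebraMap_eq_smul_one]
        simp only [smul_mul_assoc, one_mul, mul_smul_comm, mul_one, smul_smul]
        module
      | add z z' hz hz' =>
        simp only [map_add, hz, hz', smul_add]
        abel
    have h1 : TensorProduct.rid K A ((Coalgebra.counit (R := K)).lTensor A (Coalgebra.comul (R := K) a)) = a := by
      simp [Coalgebra.lTensor_counit_comul]
    have h2 : TensorProduct.lid K A ((Coalgebra.counit (R := K)).rTensor A (Coalgebra.comul (R := K) a)) = a := by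
      simp [Coalgebra.rTensor_counit_comul]
    have h3 : Bialgebra.counitAlgHom K A (LinearMap.mul' K A (Coalgebra.comul (R := K) a)) =
        Bialgebra.counitAlgHom K A a := by
      have := congrArg (Coalgebra.counit (R := K)) h2
      refine Eq.trans ?_ this
      induction Coalgebra.comul (R := K) a using TensorProduct.induction_on with
      | zero => simp
      | tmul b c => simp
      | add b c hb hc => simp only [map_add, hb, hc]
    have hs : SGA3b.powConv K A (n + 1) a = LinearMap.mul' K A (TensorProduct.map
        (SGA3b.powConv K A n).toLinearMap LinearMap.id (Coalgebra.comul (R := K) a)) := by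
      simp only [SGA3b.powConv, pow_succ]
      refine (AlgHom.convMul_apply _ _ _).trans ?_
      induction Coalgebra.comul (R := K) a using TensorProduct.induction_on with
      | zero => simp
      | tmul x y => simp
      | add x y hx hy => simp only [map_add, hx, hy]
    rw [hs, key, h1, h2, h3, Nat.cast_succ, add_smul, one_smul, add_assoc]

variable [Module.Finite K A] {p : ℕ} [Fact p.Prime] {χ : (ZMod p)ˣ →* Kˣ} {u : K}

theorem exists_eigen_generator (hA : Module.finrank K A = p)
    (hχ : ∀ m : (ZMod p)ˣ, m ≠ 1 → IsUnit ((χ m : K) - 1)) (hu : u * ((p - 1 : ℕ) : K) = 1)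
    (hχp : ∀ m : (ZMod p)ˣ, ((χ m : Kˣ) : K) - (((m : ZMod p).val : ℕ) : K) ∈ Ideal.span ({(p : K)} : Set K)) :
    ∃ y ∈ OortTate.eigenAug K A p χ 1, LinearIndependent K (fun j : Fin p => y ^ (j : ℕ)) := by
  classical
  have hp := (Fact.out : p.Prime)
  have hpow : toConv (AlgHom.id K A) ^ p = 1 := hA ▸ convPow_finrank
  haveI : Nontrivial A := (Bialgebra.counitAlgHom K A).toRingHom.domain_nontrivial
  haveI := finite_points (K := K) (A := A)
  have hdvd := card_points_dvd (K := K) (A := A)
  rw [hA] at hdvd
  rcases hp.eq_one_or_self_of_dvd _ hdvd with h1 | h1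
  · -- connected case
    have hsub : Subsingleton (A →ₐ[K] K) := (Nat.card_eq_one_iff_unique.1 h1).1
    have hnil : ∀ a ∈ aug K A, IsNilpotent a := fun a ha =>
      isNilpotent_of_forall_point (K := K) fun g => by
        rw [Subsingleton.elim g (Bialgebra.counitAlgHom K A)]
        exact ha
    obtain ⟨hq, hpw, -, x, hx, hli, hsp⟩ := exists_connected_generator hA hnil
    have hmon : ∀ e : Fin 1 → Fin p, mon p x e = x 0 ^ (e 0 : ℕ) := fun e => by simp [mon]
    have hx0 : Bialgebra.counitAlgHom K A (x 0) = 0 := hx 0
    have haug : ∀ a ∈ aug K A, ∃ b, a = x 0 * b := by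
      intro a ha
      have hmem : augProj K A a ∈ (Ideal.span {x 0}).restrictScalars K := by
        have : (⊤ : Submodule K A) ≤ Submodule.comap (augProj K A) ((Ideal.span {x 0}).restrictScalars K) := by
          rw [← hsp, Submodule.span_le]
          rintro _ ⟨e, rfl⟩
          rw [SetLike.mem_coe, Submodule.mem_comap, Submodule.restrictScalars_mem, hmon]
          rcases Nat.eq_zero_or_pos (e 0 : ℕ) with h0 | h0
          · rw [h0, pow_zero, augProj_apply, map_one, map_one, sub_self]
            exact zero_mem _
          · rw [augProj_eq_self (by rw [map_pow, hx0, zero_pow h0.ne'])]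
            exact Ideal.mem_span_singleton.2 (dvd_pow_self _ h0.ne')
        exact this Submodule.mem_top
      rw [augProj_eq_self ha] at hmem
      obtain ⟨b, hb⟩ := Ideal.mem_span_singleton.1 hmem
      exact ⟨b, hb⟩
    let y := proj' hpow χ u 1 (x 0)
    have hyI : y ∈ OortTate.eigenAug K A p χ 1 := proj'_mem hpow 1 _
    have hχm : ∀ m : (ZMod p)ˣ, ((m : ZMod p).val : K) = (χ m : K) := fun m => by
      have h := hχp m
      rw [CharP.cast_eq_zero, Ideal.span_singleton_zero, Ideal.mem_bot, sub_eq_zero] at h
      exact h.symm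
    have hy : y - x 0 ∈ aug K A ^ 2 := by
      rw [← Ideal.Quotient.eq_zero_iff_mem, ← Ideal.Quotient.mkₐ_eq_mk K, map_sub, sub_eq_zero]
      change Ideal.Quotient.mkₐ K _ (idem (rho hpow) χ u 1 (augProj K A (x 0))) = _
      rw [augProj_eq_self hx0]
      simp only [idem, LinearMap.smul_apply, LinearMap.sum_apply, rho_apply, map_smul, map_sum,
        AlgHom.toLinearMap_apply, mk_powConv, hx0, map_zero, zero_add, augProj_eq_self hx0, hχm,
        smul_smul, ← Finset.sum_smul]
      rw [show (∑ m : (ZMod p)ˣ, (χ m⁻¹ : K) ^ 1 * (χ m : K)) =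
        ∑ m : (ZMod p)ˣ, (χ m⁻¹ : K) ^ 1 * (χ m : K) ^ 1 by simp, sum_chi_mul hχ,
        if_pos (Nat.ModEq.refl _), hu, one_smul]
    obtain ⟨b, hb⟩ : ∃ b, y - x 0 = x 0 ^ 2 * b := by
      have hle : aug K A ^ 2 ≤ Ideal.span {x 0 ^ 2} := by
        rw [← Ideal.span_singleton_pow]
        exact Ideal.pow_right_mono (fun a ha => Ideal.mem_span_singleton.2 (haug a ha)) 2
      exact Ideal.mem_span_singleton.1 (hle hy)
    have hyx : y = x 0 * (1 + x 0 * b) := by rw [← sub_add_cancel y (x 0), hb]; ring
    have hu' : IsUnit (1 + x 0 * b) :=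
      ((Commute.all (x 0) b).isNilpotent_mul_right (hnil _ (hx 0))).isUnit_one_add
    refine ⟨y, hyI, linearIndependent_pow_of_nilpotent (by rw [hyx, mul_pow, hpw _ (hx 0), zero_mul]) ?_⟩
    rw [hyx, mul_pow, ne_eq, (hu'.pow (p - 1)).mul_left_eq_zero]
    have := hli.ne_zero (fun _ => ⟨p - 1, by have := hp.pos; omega⟩)
    rwa [hmon] at this
  · -- étale case
    have hcard : Nat.card (WithConv (A →ₐ[K] K)) = p := by
      rw [Nat.card_congr (⟨ofConv, toConv, fun _ => rfl, fun _ => rfl⟩ :
        WithConv (A →ₐ[K] K) ≃ (A →ₐ[K] K)), h1]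
    haveI : Finite (WithConv (A →ₐ[K] K)) := Finite.of_injective ofConv ofConv_injective
    haveI : Nontrivial (WithConv (A →ₐ[K] K)) :=
      Finite.one_lt_card_iff_nontrivial.1 (hcard ▸ hp.one_lt)
    obtain ⟨g, hg⟩ := exists_ne (1 : WithConv (A →ₐ[K] K))
    have hgp : ∀ h : WithConv (A →ₐ[K] K), h ^ p = 1 := fun h => hcard ▸ pow_card_eq_one'
    have hord : orderOf g = p := by
      have := orderOf_dvd_natCard g
      rw [hcard] at this
      rcases hp.eq_one_or_self_of_dvd _ this with h | h
      · exact absurd (orderOf_eq_one_iff.1 h) hg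
      · exact h
    let pt : ZMod p → A →ₐ[K] K := fun k => (g ^ k.val).ofConv
    have hinj : Function.Injective pt := fun i j hij =>
      ZMod.val_injective p (pow_injOn_Iio_orderOf (by simp [hord, ZMod.val_lt]) (by simp [hord, ZMod.val_lt])
        (ofConv_injective hij))
    have hli : LinearIndependent K (fun k : ZMod p => (pt k).toLinearMap) :=
      (linearIndependent_algHom_toLinearMap K A K).comp _ hinj
    let F : A →ₗ[K] (ZMod p → K) := LinearMap.pi fun k => (pt k).toLinearMap
    have hsp := hli.span_eq_top_of_card_eq_finrank' (by simp [hA])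
    have hF : Function.Injective F := by
      rw [injective_iff_map_eq_zero]
      intro a ha
      refine (Module.forall_dual_apply_eq_zero_iff K a).1 fun φ => ?_
      have : φ ∈ LinearMap.ker (Module.Dual.eval K A a) := by
        refine (hsp ▸ Submodule.span_le.2 ?_ : (⊤ : Submodule K (Module.Dual K A)) ≤ _) Submodule.mem_top
        rintro _ ⟨k, rfl⟩
        exact congrFun ha k
      exact this
    have hFb : Function.Bijective F :=
      ⟨hF, (LinearMap.injective_iff_surjective_of_finrank_eq_finrank (by simp [hA])).1 hF⟩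
    let χ₀ : ZMod p → K := fun k => if h : k = 0 then 0 else (χ (Units.mk0 k h) : K)
    obtain ⟨y, hy⟩ := hFb.2 χ₀
    have hpt : ∀ k, pt k y = χ₀ k := congrFun hy
    have hmul : ∀ (n : ℕ) (k : ZMod p), (pt k).comp (SGA3b.powConv K A n) = pt (k * n) := fun n k => by
      apply toConv_injective
      simp only [SGA3b.powConv]
      rw [GrothLib.Hopf.FiniteRank.comp_convPow]
      simp only [pt, toConv_ofConv, AlgHom.comp_id, ← pow_mul]
      rw [pow_eq_pow_iff_modEq, hord, ← ZMod.natCast_eq_natCast_iff]
      simp
    refine ⟨y, mem_eigenAug.2 ⟨?_, fun m => hF (funext fun k => ?_)⟩, ?_⟩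
    · have h := hpt 0
      simp only [pt, χ₀, ZMod.val_zero, pow_zero, dite_true] at h
      rw [← h]
      simp
    · change ((pt k).comp (SGA3b.powConv K A (m : ZMod p).val)) y = pt k ((χ m : K) ^ 1 • y)
      rw [hmul, hpt, map_smul, hpt, pow_one, ZMod.natCast_zmod_val, smul_eq_mul]
      by_cases hk : k = 0
      · simp [χ₀, hk]
      · have hkm : k * (m : ZMod p) ≠ 0 := mul_ne_zero hk m.ne_zero
        simp only [χ₀, dif_neg hk, dif_neg hkm]
        rw [show Units.mk0 _ hkm = Units.mk0 k hk * m from Units.ext rfl, map_mul, Units.val_mul, mul_comm]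
    · rw [Fintype.linearIndependent_iff]
      intro c hc
      let e : Fin p → ZMod p := fun j => ((j : ℕ) : ZMod p)
      have hinj₀ : Function.Injective χ₀ := by
        intro a b hab
        by_cases ha : a = 0 <;> by_cases hb : b = 0
        · rw [ha, hb]
        · simp [χ₀, ha, hb] at hab
          exact absurd hab.symm (χ _).ne_zero
        · simp [χ₀, ha, hb] at hab
        · simp only [χ₀, dif_neg ha, dif_neg hb] at hab
          by_contra hne
          have h := hχ (Units.mk0 a ha * (Units.mk0 b hb)⁻¹) (fun h => hne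
            (by simpa using congrArg Units.val (mul_inv_eq_one.1 h)))
          rw [map_mul, map_inv, Units.val_mul, hab, Units.mul_inv, sub_self] at h
          exact h.ne_zero rfl
      have he : Function.Injective e := fun i j hij => by
        have := congrArg ZMod.val hij
        simpa [e, ZMod.val_natCast, Nat.mod_eq_of_lt i.2, Nat.mod_eq_of_lt j.2, Fin.ext_iff] using this
      refine fun i => congrFun (Matrix.eq_zero_of_forall_index_sum_mul_pow_eq_zero (v := c)
        (f := fun j => χ₀ (e j)) (hinj₀.comp he) fun j => ?_) i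
      have := congrArg (pt (e j)) hc
      simpa [map_sum, hpt] using this

end GrothLib.OT
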