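import Groth.Agent.Lib.OT.Pairing

/-!
The pairing between products of elements of the first eigenspaces of a group of order `p` and of its
dual is a universal multiple of the product of the pairings.
-/

universe u

set_option linter.style.haveILetI false

open WithConv TensorProduct

namespace GrothLib.OT

section Const

variable {R : Type u} [CommRing R] {p : ℕ} [Fact p.Prime] {χ : (ZMod p)ˣ →* Rˣ} {u : R}
  (hu : u * ((p - 1 : ℕ) : R) = 1)
  (hχ : ∀ m : (ZMod p)ˣ, m ≠ 1 → IsUnit ((χ m : R) - 1))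
  (hχp : ∀ m : (ZMod p)ˣ, ((χ m : Rˣ) : R) - (((m : ZMod p).val : ℕ) : R) ∈ Ideal.span ({(p : R)} : Set R))

include hu hχ hχp in
/-- the universal constants `y₁ ^ t = w • yₜ` are units -/
theorem ygen_pow_unit {t : ℕ} (ht : 1 ≤ t) (ht' : t ≤ p - 1) :
    ∃ w : Rˣ, OortTate.ygen R p u χ 1 ^ t = (w : R) • OortTate.ygen R p u χ t := by
  obtain ⟨w, hw⟩ := ygen_pow_eq hu hχ hχp ht
  have hmem : OortTate.ygen R p u χ t ∈ OortTate.eigenAug R (MonoidAlgebra R (Multiplicative (ZMod p))) p χ 1 ^ t := by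
    have hrk := rankAtStalk_mu (R := R) (p := p)
    have h := pow_eigenAug_eq (A := MonoidAlgebra R (Multiplicative (ZMod p))) hu hχ hrk hχp ht ht'
    rw [h, eigenAug_mu hu hχ]
    exact Submodule.mem_span_singleton_self _
  rw [eigenAug_mu hu hχ, Submodule.span_pow, Set.singleton_pow, Submodule.mem_span_singleton] at hmem
  obtain ⟨c, hc⟩ := hmem
  refine ⟨⟨w, c, ?_, ?_⟩, hw⟩ <;>
  · refine sub_eq_zero.1 (eq_zero_of_smul_of_span hu hχ hχp (rankAtStalk_mu (R := R) (p := p)) (eigenAug_mu hu hχ t) _ ?_)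
    rw [sub_smul, sub_eq_zero, one_smul]
    first
      | rw [mul_comm, mul_smul, ← hw, hc]
      | rw [mul_smul, ← hw, hc]

/-- the universal constant -/
noncomputable def cst (hu : u * ((p - 1 : ℕ) : R) = 1)
    (hχ : ∀ m : (ZMod p)ˣ, m ≠ 1 → IsUnit ((χ m : R) - 1))
    (hχp : ∀ m : (ZMod p)ˣ, ((χ m : Rˣ) : R) - (((m : ZMod p).val : ℕ) : R) ∈ Ideal.span ({(p : R)} : Set R))
    {t : ℕ} (ht : 1 ≤ t) (ht' : t ≤ p - 1) : Rˣ := (ygen_pow_unit hu hχ hχp ht ht').choose

theorem cst_spec {t : ℕ} (ht : 1 ≤ t) (ht' : t ≤ p - 1) :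
    OortTate.ygen R p u χ 1 ^ t = (cst hu hχ hχp ht ht' : R) • OortTate.ygen R p u χ t :=
  (ygen_pow_unit hu hχ hχp ht ht').choose_spec

end Const

variable {R : Type u} [CommRing R] {A : Type u} [CommRing A] [HopfAlgebra R A] [Coalgebra.IsCocomm R A]
  [Module.Finite R A] [Module.Projective R A]

theorem endMap_surjective : Function.Surjective (endMap R A) := fun f => by
  obtain ⟨n, F, G, -, -, hFG⟩ := Module.Finite.exists_comp_eq_id_of_projective R A
  refine ⟨∑ i, f (F fun j => if i = j then (1 : R) else 0) ⊗ₜ toConv (LinearMap.proj i ∘ₗ G),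
    WithConv.ext (LinearMap.ext fun a => ?_)⟩
  have hx : F (G a) = a := LinearMap.congr_fun hFG a
  conv_rhs => rw [← hx, pi_eq_sum_univ (G a)]
  simp [WithConv.ofConv_sum, LinearMap.sum_apply, endMap_tmul]

local instance : MonoidHomClass (A ⊗[R] CartDual.D R A →ₐ[R] WithConv (A →ₗ[R] A))
    (A ⊗[R] CartDual.D R A) (WithConv (A →ₗ[R] A)) where
  map_mul f := f.map_mul'
  map_one f := f.map_one'

theorem endMap_prod_tmul {t : ℕ} (x : Fin t → A) (ξ : Fin t → CartDual.D R A) :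
    endMap R A ((∏ k, x k) ⊗ₜ (∏ k, ξ k)) = ∏ k, endMap R A (x k ⊗ₜ ξ k) := by
  simp only [endMap, Algebra.TensorProduct.lift_tmul, Finset.prod_mul_distrib, map_prod]

variable {p : ℕ} [Fact p.Prime] {χ : (ZMod p)ˣ →* Rˣ} {u : R}

theorem exists_canonical (hp : toConv (AlgHom.id R A) ^ p = 1) :
    ∃ (δ : A ⊗[R] CartDual.D R A)
      (ϕ : MonoidAlgebra R (Multiplicative (ZMod p)) →ₐ[R] A ⊗[R] CartDual.D R A),
      (∀ a : A, TensorProduct.rid R A
        (LinearMap.lTensor A ((Module.Dual.eval R A a) ∘ₗ (CartDual.toDual R A).toLinearMap) δ) = a) ∧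
      ϕ (OortTate.muT R p) = δ := by
  obtain ⟨δ, hδ⟩ := endMap_surjective (R := R) (A := A) (toConv LinearMap.id)
  have hδp : δ ^ p = 1 := endMap_injective (by
    rw [map_pow, map_one, hδ]
    refine WithConv.ext (LinearMap.ext fun a => ?_)
    rw [id_pow_apply, SGA3b.powConv, hp]
    simp)
  have hper : ∀ n : ℕ, δ ^ (n % p) = δ ^ n := fun n => endMap_injective (by
    have hW : (toConv LinearMap.id : WithConv (A →ₗ[R] A)) ^ p = 1 := by
      rw [← hδ, ← map_pow, hδp, map_one]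
    rw [map_pow, map_pow, hδ]
    conv_rhs => rw [← Nat.div_add_mod n p, pow_add, pow_mul, hW, one_pow, one_mul])
  let f : Multiplicative (ZMod p) →* A ⊗[R] CartDual.D R A :=
    { toFun := fun g => δ ^ (Multiplicative.toAdd g).val
      map_one' := by simp
      map_mul' := fun g h => by rw [toAdd_mul, ZMod.val_add, hper, pow_add] }
  refine ⟨δ, MonoidAlgebra.lift R _ _ f, fun a => ?_, ?_⟩
  · rw [← endMap_apply, hδ]
    rfl
  · rw [OortTate.muT, MonoidAlgebra.lift_of]
    simp [f, ZMod.val_one]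

variable (hu : u * ((p - 1 : ℕ) : R) = 1)
  (hχ : ∀ m : (ZMod p)ˣ, m ≠ 1 → IsUnit ((χ m : R) - 1))
  (hχp : ∀ m : (ZMod p)ˣ, ((χ m : Rˣ) : R) - (((m : ZMod p).val : ℕ) : R) ∈ Ideal.span ({(p : R)} : Set R))

include hu hχ in
/-- `E₁` written with elements of the first eigenspaces -/
theorem exists_expansion (hp : toConv (AlgHom.id R A) ^ p = 1) :
    ∃ (n : ℕ) (x : Fin n → A) (ξ : Fin n → CartDual.D R A),
      (∀ i, x i ∈ OortTate.eigenAug R A p χ 1) ∧
      (∀ i, ξ i ∈ OortTate.eigenAug R (CartDual.D R A) p χ 1) ∧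
      endMap R A (∑ i, x i ⊗ₜ ξ i) = toConv (proj' hp χ u 1) := by
  obtain ⟨n, F, G, -, -, hFG⟩ := Module.Finite.exists_comp_eq_id_of_projective R A
  refine ⟨n, fun i => proj' hp χ u 1 (F fun j => if i = j then (1 : R) else 0),
    fun i => proj' (convPow_dual hp) χ u 1 (toConv (LinearMap.proj i ∘ₗ G)),
    fun i => proj'_mem hp 1 _, fun i => proj'_mem _ 1 _, WithConv.ext (LinearMap.ext fun a => ?_)⟩
  have hx : F (G (proj' hp χ u 1 a)) = proj' hp χ u 1 a := LinearMap.congr_fun hFG _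
  rw [map_sum, WithConv.ofConv_sum, LinearMap.sum_apply]
  simp only [endMap_tmul, proj'_dual hp]
  change _ = proj' hp χ u 1 a
  conv_rhs => rw [← proj'_eq_self hp hχ hu (proj'_mem hp (χ := χ) (u := u) 1 a), ← hx,
    pi_eq_sum_univ (G (proj' hp χ u 1 a)), map_sum, map_sum]
  exact Finset.sum_congr rfl fun i _ => by simp [map_smul]

include hu hχ hχp

/-- the `t`-th power of the expansion of `E₁` is a multiple of `Eₜ` -/
theorem sum_prod_expansion (hp : toConv (AlgHom.id R A) ^ p = 1) {t : ℕ} (ht : 1 ≤ t) (ht' : t ≤ p - 1)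
    {n : ℕ} (x : Fin n → A) (ξ : Fin n → CartDual.D R A)
    (hz : endMap R A (∑ i, x i ⊗ₜ ξ i) = toConv (proj' hp χ u 1)) (a : A) :
    ∑ J : Fin t → Fin n, (∏ k, ξ (J k)) a • ∏ k, x (J k) =
      (cst hu hχ hχp ht ht' : R) • proj' hp χ u t a := by
  obtain ⟨δ, ϕ, hδ, hϕ⟩ := exists_canonical (R := R) (A := A) hp
  have h1 : ϕ (OortTate.ygen R p u χ 1) = ∑ i, x i ⊗ₜ ξ i :=
    endMap_injective ((endMap_ygen hp hδ hϕ 1).trans hz.symm)
  have h := congrArg (endMap R A) (congrArg ϕ (cst_spec hu hχ hχp ht ht'))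
  rw [show ϕ (OortTate.ygen R p u χ 1 ^ t) = ϕ (OortTate.ygen R p u χ 1) ^ t from
      map_pow ϕ.toRingHom _ t, h1, map_pow, map_sum, map_smul, map_smul, endMap_ygen hp hδ hϕ t,
    show (∑ i, endMap R A (x i ⊗ₜ[R] ξ i)) ^ t = ∏ _k : Fin t, ∑ i, endMap R A (x i ⊗ₜ[R] ξ i) by simp,
    Fintype.prod_sum] at h
  have h' := congrArg (fun f : WithConv (A →ₗ[R] A) => f.ofConv a) h
  simp only [WithConv.ofConv_sum, LinearMap.sum_apply, ← endMap_prod_tmul, endMap_tmul,
    WithConv.ofConv_smul, LinearMap.smul_apply] at h'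
  exact h'

theorem pairing_prod (hrk : ∀ q : PrimeSpectrum R, Module.rankAtStalk (R := R) A q = p) {t : ℕ}
    (ht : 1 ≤ t) (ht' : t ≤ p - 1)
    (η : Fin t → CartDual.D R A) (hη : ∀ k, η k ∈ OortTate.eigenAug R (CartDual.D R A) p χ 1)
    (y : Fin t → A) (hy : ∀ k, y k ∈ OortTate.eigenAug R A p χ 1) :
    (∏ k, η k) (∏ k, y k) = (cst hu hχ hχp ht ht' : R) * ∏ k, η k (y k) := by
  classical
  have hp := convPow_eq_one (A := A) hrk
  haveI := finite_eigenAug (A := A) hu hχ hrk 1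
  haveI := projective_eigenAug (A := A) hu hχ hrk 1
  haveI := finite_eigenAug (A := A) hu hχ hrk t
  haveI := projective_eigenAug (A := A) hu hχ hrk t
  have hI := rankAtStalk_eigenAug (A := A) hu hχ hrk hχp 1
  obtain ⟨n, x, ξ, hx, hξ, hz⟩ := exists_expansion (A := A) hu hχ hp
  set w : R := (cst hu hχ hχp ht ht' : R)
  have hexp : ∀ k, η k = ∑ i, η k (x i) • ξ i := fun k => by
    refine WithConv.ext (LinearMap.ext fun a => ?_)
    have h := congrArg (fun f : WithConv (A →ₗ[R] A) => η k (f.ofConv a)) hz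
    simp only [map_sum, WithConv.ofConv_sum, LinearMap.sum_apply, endMap_tmul, map_smul] at h
    rw [← proj'_dual hp, proj'_eq_self (convPow_dual hp) hχ hu (hη k)] at h
    rw [← h]
    simp [WithConv.ofConv_sum, LinearMap.sum_apply, mul_comm]
  have hprod : ∏ k, η k = ∑ J : Fin t → Fin n, (∏ k, η k (x (J k))) • ∏ k, ξ (J k) := by
    conv_lhs => rw [Finset.prod_congr rfl fun k _ => hexp k, Fintype.prod_sum]
    refine Finset.sum_congr rfl fun J _ => ?_
    simp only [Algebra.smul_def, Finset.prod_mul_distrib, map_prod]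
  let ηd : Fin t → Module.Dual R (OortTate.eigenAug R A p χ 1) := fun k =>
    ((CartDual.toDual R A) (η k)).comp (OortTate.eigenAug R A p χ 1).subtype
  have key : ∀ z : Fin t → A, (∀ k, z k ∈ OortTate.eigenAug R A p χ 1) → ∀ a : A,
      (∏ k, η k) a • ∏ k, z k = (w * ∏ k, η k (z k)) • proj' hp χ u t a := by
    intro z hz' a
    rw [mul_comm w, mul_smul, ← sum_prod_expansion hu hχ hχp hp ht ht' x ξ hz a, Finset.smul_sum, hprod,
      WithConv.ofConv_sum, LinearMap.sum_apply, Finset.sum_smul]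
    refine Finset.sum_congr rfl fun J _ => ?_
    have h := RankOne.prod_smul_prod_comm hI (OortTate.eigenAug R A p χ 1).subtype ηd
      (fun k => (⟨x (J k), hx _⟩ : OortTate.eigenAug R A p χ 1)) (fun k => ⟨z k, hz' k⟩)
    simp only [ηd, LinearMap.comp_apply, Submodule.subtype_apply, CartDual.toDual_apply] at h
    rw [WithConv.ofConv_smul, LinearMap.smul_apply, smul_eq_mul, mul_comm, mul_smul, h, smul_comm]
  refine sub_eq_zero.1 (RankOne.eq_zero_of_forall_smul (rankAtStalk_eigenAug (A := A) hu hχ hrk hχp t) _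
    fun f => Subtype.ext ?_)
  have hf : (f : A) ∈ OortTate.eigenAug R A p χ 1 ^ t := by
    rw [pow_eigenAug_eq hu hχ hrk hχp ht ht']; exact f.2
  have hle : OortTate.eigenAug R A p χ 1 ^ t ≤ LinearMap.ker
      (LinearMap.lsmul R A ((∏ k, η k) (∏ k, y k) - w * ∏ k, η k (y k))) := by
    rw [← Submodule.span_eq (OortTate.eigenAug R A p χ 1), Submodule.span_pow, Submodule.span_le]
    intro b hb
    obtain ⟨g, rfl⟩ := Set.mem_pow.1 hb
    rw [SetLike.mem_coe, LinearMap.mem_ker, LinearMap.lsmul_apply, sub_smul, sub_eq_zero, List.prod_ofFn]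
    have hyt : ∏ k, y k ∈ OortTate.eigenAug R A p χ t := by
      have h := prod_mem_eigenAug (R := R) (χ := χ) Finset.univ ⟨⟨0, ht⟩, Finset.mem_univ _⟩ y fun k _ => hy k
      rwa [Finset.card_univ, Fintype.card_fin] at h
    rw [key (fun k => (g k : A)) (fun k => (g k).2), proj'_eq_self hp hχ hu hyt, mul_smul, mul_smul]
    refine congrArg (w • ·) ?_
    have h := RankOne.prod_smul_prod_comm hI (OortTate.eigenAug R A p χ 1).subtype ηd
      (fun k => (⟨g k, (g k).2⟩ : OortTate.eigenAug R A p χ 1)) (fun k => ⟨y k, hy k⟩)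
    simpa [ηd] using h
  exact (hle hf : _)

omit hχp in
theorem pairing_eq_zero (hp : toConv (AlgHom.id R A) ^ p = 1) {s t : ℕ} (h : ¬ t ≡ s [MOD (p - 1)])
    {η : CartDual.D R A} (hη : η ∈ OortTate.eigenAug R (CartDual.D R A) p χ t)
    {a : A} (ha : a ∈ OortTate.eigenAug R A p χ s) : η a = 0 := by
  rw [← proj'_eq_self (convPow_dual hp) hχ hu hη, proj'_dual hp, proj'_eq_zero hp hχ hu h ha, map_zero]

theorem dual_powSum_eq_top (hp : toConv (AlgHom.id R A) ^ p = 1) :
    powSum R (CartDual.D R A) p χ = ⊤ := by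
  rw [eq_top_iff]
  intro ζ _
  have hpD := convPow_dual (A := A) hp
  have hdec : ζ = algebraMap R _ (Bialgebra.counitAlgHom R _ ζ) +
      ∑ i : Fin (p - 1), proj' hpD χ u (i : ℕ) ζ := by
    rw [sum_proj'_apply hpD hχ hu, augProj_apply]
    abel
  rw [hdec]
  refine Submodule.add_mem _ (Submodule.mem_iSup_of_mem ⟨0, (Fact.out : p.Prime).pos⟩ ?_)
    (Submodule.sum_mem _ fun i _ => ?_)
  · rw [Fin.val_mk, pow_zero]
    exact Submodule.algebraMap_mem _
  · obtain ⟨t, ht, ht', hti⟩ := exists_rep (p := p) (i : ℕ)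
    rw [← proj'_congr hpD hti]
    refine Submodule.mem_iSup_of_mem (p := fun t : Fin p => OortTate.eigenAug R (CartDual.D R A) p χ 1 ^ (t : ℕ))
      ⟨t, by have := (Fact.out : p.Prime).pos; omega⟩ ?_
    obtain ⟨n, x, ξ, hx, hξ, hz⟩ := exists_expansion (A := A) hu hχ hp
    set w := cst hu hχ hχp ht ht'
    have hsum : proj' hpD χ u t ζ =
        ((w⁻¹ : Rˣ) : R) • ∑ J : Fin t → Fin n, ζ (∏ k, x (J k)) • ∏ k, ξ (J k) := by
      refine WithConv.ext (LinearMap.ext fun a => ?_)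
      rw [proj'_dual hp, WithConv.ofConv_smul, LinearMap.smul_apply, WithConv.ofConv_sum, LinearMap.sum_apply]
      have h := congrArg (fun b => ((w⁻¹ : Rˣ) : R) * ζ b) (sum_prod_expansion hu hχ hχp hp ht ht' x ξ hz a)
      simp only [map_sum, map_smul, smul_eq_mul] at h
      rw [← mul_assoc, Units.inv_mul, one_mul] at h
      rw [← h, smul_eq_mul]
      refine congrArg _ (Finset.sum_congr rfl fun J _ => ?_)
      rw [WithConv.ofConv_smul, LinearMap.smul_apply, smul_eq_mul, mul_comm]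
    change _ ∈ OortTate.eigenAug R (CartDual.D R A) p χ 1 ^ t
    rw [hsum]
    refine Submodule.smul_mem _ _ (Submodule.sum_mem _ fun J _ => Submodule.smul_mem _ _ ?_)
    rw [← List.prod_ofFn]
    exact Submodule.pow_subset_pow _ (Set.mem_pow.2 ⟨fun k => ⟨ξ (J k), hξ _⟩, rfl⟩)

end GrothLib.OT
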