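import Groth.Agent.Lib.OT.Pres
import Groth.Agent.Lib.OT.Dual
import Mathlib.LinearAlgebra.Finsupp.VectorSpace

/-!
The group algebra of a cyclic group of order `p` (the group scheme `μ_p`).
-/

universe u

set_option linter.style.haveILetI false

open WithConv

namespace GrothLib.OT

variable {R : Type u} [CommRing R] {p : ℕ} [Fact p.Prime] {χ : (ZMod p)ˣ →* Rˣ} {u : R}

local notation "MU" => MonoidAlgebra R (Multiplicative (ZMod p))

theorem powConv_of (n : ℕ) (g : Multiplicative (ZMod p)) :
    SGA3b.powConv R MU n (MonoidAlgebra.of R _ g) = MonoidAlgebra.of R _ (g ^ n) := by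
  induction n with
  | zero => rw [powConv_zero_apply, pow_zero, map_one]; simp [MonoidAlgebra.one_def]
  | succ n ih =>
    rw [powConv_succ_apply, pow_succ, map_mul, ← ih, MonoidAlgebra.of_apply, MonoidAlgebra.comul_single]
    simp

theorem rankAtStalk_mu (q : PrimeSpectrum R) : Module.rankAtStalk (R := R) MU q = p := by
  haveI : Nontrivial R := q.nontrivial
  haveI : Module.Free R MU := .of_basis (MonoidAlgebra.basis _ R)
  haveI : Module.Finite R MU := .of_basis (MonoidAlgebra.basis _ R)
  rw [Module.rankAtStalk_eq_finrank_of_free]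
  simp [Module.finrank_eq_card_basis (MonoidAlgebra.basis (Multiplicative (ZMod p)) R)]

instance : Module.Free R MU := .of_basis (MonoidAlgebra.basis _ R)

instance : Module.Finite R MU := .of_basis (MonoidAlgebra.basis _ R)

variable (hu : u * ((p - 1 : ℕ) : R) = 1)
  (hχ : ∀ m : (ZMod p)ˣ, m ≠ 1 → IsUnit ((χ m : R) - 1))
  (hχp : ∀ m : (ZMod p)ˣ, ((χ m : Rˣ) : R) - (((m : ZMod p).val : ℕ) : R) ∈ Ideal.span ({(p : R)} : Set R))

theorem convPow_mu : toConv (AlgHom.id R MU) ^ p = 1 :=
  convPow_eq_one rankAtStalk_mu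

theorem ygen_eq (i : ℕ) : OortTate.ygen R p u χ i = proj' convPow_mu χ u i (OortTate.muT R p) := by
  rw [OortTate.ygen, proj_eq convPow_mu, proj', Module.End.mul_apply]
  congr 1
  rw [augProj_apply]
  simp [OortTate.muT, MonoidAlgebra.one_def]

include hu hχ in
theorem eigenAug_mu (i : ℕ) :
    OortTate.eigenAug R MU p χ i = Submodule.span R {OortTate.ygen R p u χ i} := by
  refine le_antisymm (fun f hf => ?_) ?_
  · rw [← proj'_eq_self convPow_mu hχ hu hf]
    have key : (⊤ : Submodule R MU) ≤ Submodule.comap (proj' convPow_mu χ u i)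
        (Submodule.span R {OortTate.ygen R p u χ i}) := by
      rw [← (MonoidAlgebra.basis (Multiplicative (ZMod p)) R).span_eq, Submodule.span_le]
      rintro _ ⟨g, rfl⟩
      rw [SetLike.mem_coe, Submodule.mem_comap, MonoidAlgebra.basis_apply, ← MonoidAlgebra.of_apply]
      by_cases hg : Multiplicative.toAdd g = 0
      · have : g = 1 := toAdd_eq_zero.1 hg
        rw [this, map_one, proj', Module.End.mul_apply, augProj_apply, map_one, map_one, sub_self, map_zero]
        exact zero_mem _
      · let m : (ZMod p)ˣ := Units.mk0 _ hg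
        have hgm : MonoidAlgebra.of R _ g = rho convPow_mu m (OortTate.muT R p) := by
          rw [rho_apply, AlgHom.toLinearMap_apply, OortTate.muT, powConv_of, ← ofAdd_nsmul]
          congr 1
          simp [m]
        rw [hgm, ← Module.End.mul_apply, proj', mul_assoc, ← (commute_rho_augProj convPow_mu m).eq,
          ← mul_assoc, idem_mul, smul_mul_assoc, LinearMap.smul_apply]
        refine Submodule.smul_mem _ _ ?_
        rw [ygen_eq]
        exact Submodule.mem_span_singleton_self _
    exact key Submodule.mem_top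
  · rw [Submodule.span_singleton_le_iff_mem, ygen_eq]
    exact proj'_mem _ i _

include hu hχ hχp

theorem eq_zero_of_smul_of_span {A : Type u} [CommRing A] [HopfAlgebra R A] [Module.Finite R A]
    [Module.Projective R A] (hrk : ∀ q : PrimeSpectrum R, Module.rankAtStalk (R := R) A q = p) {i : ℕ} {x : A}
    (hx : OortTate.eigenAug R A p χ i = Submodule.span R {x}) (r : R) (hr : r • x = 0) : r = 0 := by
  haveI := finite_eigenAug hu hχ hrk i
  haveI := projective_eigenAug hu hχ hrk i
  refine RankOne.eq_zero_of_forall_smul (rankAtStalk_eigenAug hu hχ hrk hχp i) r fun f => Subtype.ext ?_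
  have hf : (f : A) ∈ Submodule.span R {x} := hx.le f.2
  rw [Submodule.mem_span_singleton] at hf
  obtain ⟨c, hc⟩ := hf
  rw [Submodule.coe_smul, ← hc, smul_comm, hr, smul_zero, Submodule.coe_zero]

theorem ygen_pow_eq {t : ℕ} (ht : 1 ≤ t) :
    ∃ w : R, OortTate.ygen R p u χ 1 ^ t = w • OortTate.ygen R p u χ t := by
  have h : OortTate.ygen R p u χ 1 ^ t ∈ OortTate.eigenAug R MU p χ t :=
    pow_le_eigenAug ht (Submodule.pow_mem_pow _ (by rw [eigenAug_mu hu hχ 1]; exact Submodule.mem_span_singleton_self _) t)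
  rw [eigenAug_mu hu hχ t, Submodule.mem_span_singleton] at h
  obtain ⟨w, hw⟩ := h
  exact ⟨w, hw.symm⟩

end GrothLib.OT
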