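import Mathlib.RingTheory.HopfAlgebra.Basic
import Mathlib.RingTheory.Bialgebra.TensorProduct
import Mathlib.RingTheory.Bialgebra.Equiv
import Mathlib.RingTheory.HopfAlgebra.Convolution
import Mathlib.Tactic.Module
import Mathlib.Tactic.LinearCombination

/-!
Hopf algebras whose augmentation ideal is free on one generator (group schemes of order two).
-/

universe u v

set_option linter.style.haveILetI false

open TensorProduct

namespace GrothLib.OT.Two

variable {R : Type u} [CommRing R] {A : Type v} [CommRing A] [HopfAlgebra R A] {x : A}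
  (hx : Bialgebra.counitAlgHom R A x = 0)
  (hgen : ∀ f : A, Bialgebra.counitAlgHom R A f = 0 → ∃ r : R, f = r • x)
  (hfree : ∀ r : R, r • x = 0 → r = 0)

include hx hgen hfree

theorem exists_coord : ∃ c : A →ₗ[R] R, c x = 1 ∧ c 1 = 0 ∧
    ∀ f, f = algebraMap R A (Bialgebra.counitAlgHom R A f) + c f • x := by
  have h : ∀ f, ∃ r : R, f - algebraMap R A (Bialgebra.counitAlgHom R A f) = r • x := fun f =>
    hgen _ (by simp)
  choose c hc using h
  have huniq : ∀ (f : A) (r : R), f - algebraMap R A (Bialgebra.counitAlgHom R A f) = r • x → c f = r :=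
    fun f r hr => sub_eq_zero.1 (hfree _ (by rw [sub_smul, ← hc, hr, sub_self]))
  refine ⟨{ toFun := c
            map_add' := fun f g => huniq _ _ (by rw [map_add, map_add, add_sub_add_comm, hc, hc, add_smul])
            map_smul' := fun r f => huniq _ _ (by
              rw [map_smul, smul_eq_mul, map_mul, ← Algebra.smul_def, ← smul_sub, hc, RingHom.id_apply,
                smul_eq_mul, smul_smul]) },
    huniq _ _ ?_, huniq _ _ ?_, fun f => ?_⟩
  · rw [hx, map_zero, sub_zero, one_smul]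
  · rw [map_one, map_one, sub_self, zero_smul]
  · change f = _ + c f • x
    rw [← hc, add_sub_cancel]

theorem exists_tensor_coord (z : A ⊗[R] A) : ∃ c₀ c₁ c₂ c₃ : R,
    z = c₀ • (1 ⊗ₜ 1) + c₁ • (x ⊗ₜ 1) + c₂ • (1 ⊗ₜ x) + c₃ • (x ⊗ₜ[R] x) := by
  obtain ⟨c, -, -, hdec⟩ := exists_coord hx hgen hfree
  induction z using TensorProduct.induction_on with
  | zero => exact ⟨0, 0, 0, 0, by simp⟩
  | tmul f g =>
    refine ⟨Bialgebra.counitAlgHom R A f * Bialgebra.counitAlgHom R A g,
      c f * Bialgebra.counitAlgHom R A g, Bialgebra.counitAlgHom R A f * c g, c f * c g, ?_⟩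
    conv_lhs => rw [hdec f, hdec g]
    simp only [Algebra.algebraMap_eq_smul_one, add_tmul, tmul_add, ← smul_tmul', tmul_smul, smul_smul]
    module
  | add y z hy hz =>
    obtain ⟨a₀, a₁, a₂, a₃, rfl⟩ := hy
    obtain ⟨b₀, b₁, b₂, b₃, rfl⟩ := hz
    exact ⟨a₀ + b₀, a₁ + b₁, a₂ + b₂, a₃ + b₃, by module⟩

theorem tmul_eq_zero {r : R} (h : r • (x ⊗ₜ[R] x) = (0 : A ⊗[R] A)) : r = 0 := by
  obtain ⟨c, hcx, -, -⟩ := exists_coord hx hgen hfree
  simpa [hcx] using congrArg (fun z => TensorProduct.lid R R (TensorProduct.map c c z)) h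

theorem exists_comul : ∃ b : R,
    Bialgebra.comulAlgHom R A x = x ⊗ₜ[R] 1 + 1 ⊗ₜ[R] x + b • (x ⊗ₜ[R] x) := by
  obtain ⟨c, hcx, hc1, -⟩ := exists_coord hx hgen hfree
  obtain ⟨c₀, c₁, c₂, c₃, h⟩ := exists_tensor_coord hx hgen hfree (Bialgebra.comulAlgHom R A x)
  have hx' : Coalgebra.counit (R := R) x = 0 := hx
  have hl := congrArg (fun z => TensorProduct.rid R A ((Coalgebra.counit (R := R)).lTensor A z)) h
  have hr := congrArg (fun z => TensorProduct.lid R A ((Coalgebra.counit (R := R)).rTensor A z)) h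
  simp only [Bialgebra.comulAlgHom_apply, Coalgebra.lTensor_counit_comul, Coalgebra.rTensor_counit_comul,
    TensorProduct.rid_tmul, TensorProduct.lid_tmul, map_add, map_smul, LinearMap.lTensor_tmul,
    LinearMap.rTensor_tmul, hx', Bialgebra.counit_one, one_smul, zero_smul, smul_zero, add_zero] at hl hr
  have hl' := congrArg c hl
  have hr' := congrArg c hr
  have hl0 := congrArg (Bialgebra.counitAlgHom R A) hl
  simp only [map_add, map_smul, hcx, hc1, smul_eq_mul, mul_one, mul_zero, zero_add, add_zero, map_one, hx]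
    at hl' hr' hl0
  refine ⟨c₃, ?_⟩
  rw [h, ← hl', ← hr', ← hl0, zero_smul, one_smul, one_smul, zero_add]

theorem exists_relations : ∃ a b : R, x * x = a • x ∧
    Bialgebra.comulAlgHom R A x = x ⊗ₜ[R] 1 + 1 ⊗ₜ[R] x + b • (x ⊗ₜ[R] x) ∧ a * b = -2 := by
  obtain ⟨a, ha⟩ := hgen (x * x) (by rw [map_mul, hx, mul_zero])
  obtain ⟨b, hb⟩ := exists_comul hx hgen hfree
  obtain ⟨c, hcx, hc1, hdec⟩ := exists_coord hx hgen hfree
  refine ⟨a, b, ha, hb, ?_⟩
  have hεS : Bialgebra.counitAlgHom R A (HopfAlgebra.antipodeAlgHom R A x) = 0 := by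
    have h := DFunLike.congr_fun (AlgHom.counitAlgHom_comp_antipodeAlgHom (R := R) (A := A)) x
    exact h.trans hx
  obtain ⟨r, hr⟩ := hgen _ hεS
  have hr' : HopfAlgebra.antipode R x = r • x := hr
  have hanti := HopfAlgebra.mul_antipode_rTensor_comul_apply (R := R) x
  rw [show Coalgebra.comul (R := R) x = _ from hb, show Coalgebra.counit (R := R) x = 0 from hx] at hanti
  simp only [map_add, map_smul, LinearMap.rTensor_tmul, LinearMap.mul'_apply, hr', HopfAlgebra.antipode_one,
    one_mul, mul_one, smul_mul_assoc, ha, map_zero, smul_smul] at hanti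
  have h1 := congrArg c hanti
  simp only [map_add, map_smul, hcx, smul_eq_mul, mul_one, map_zero] at h1
  have hm := congrArg (Bialgebra.comulAlgHom R A) ha
  rw [map_mul, map_smul, hb] at hm
  have hm' : ((2 : R) + (4 * (a * b)) + (a * b) * (a * b) - a * b) • (x ⊗ₜ[R] x) = (0 : A ⊗[R] A) := by
    simp only [add_mul, mul_add, smul_mul_assoc, mul_smul_comm, Algebra.TensorProduct.tmul_mul_tmul, ha,
      mul_one, one_mul, ← smul_tmul', tmul_smul, smul_add, smul_smul] at hm
    rw [← sub_eq_zero] at hm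
    rw [← hm]
    module
  have h2 := tmul_eq_zero hx hgen hfree hm'
  linear_combination (-r) * h2 + (a * b + 2) * h1

end GrothLib.OT.Two
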