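import Groth.Agent.Lib.OT.Mu
import Groth.Agent.Lib.OT.Dual
import Mathlib.LinearAlgebra.Dual.Lemmas

/-!
The pairing between a group of order `p` and its dual, seen in the convolution algebra of endomorphisms.
-/

universe u

set_option linter.style.haveILetI false

open WithConv TensorProduct

namespace GrothLib.OT

variable {R : Type u} [CommRing R] {A : Type u} [CommRing A] [HopfAlgebra R A] [Coalgebra.IsCocomm R A]
  [Module.Finite R A] [Module.Projective R A]

variable (R A) in
/-- `x ⊗ ξ ↦ (a ↦ ξ a • x)` -/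
noncomputable def endMap : A ⊗[R] CartDual.D R A →ₐ[R] WithConv (A →ₗ[R] A) :=
  Algebra.TensorProduct.lift
    ({ algebraMap A (WithConv (A →ₗ[R] A)) with
      commutes' := fun r => WithConv.ext (LinearMap.ext fun a => by
        change algebraMap R A r • algebraMap R A (Coalgebra.counit (R := R) a) =
          r • algebraMap R A (Coalgebra.counit (R := R) a)
        exact algebraMap_smul A r _) } : A →ₐ[R] WithConv (A →ₗ[R] A))
    { GrothLib.Hopf.Deligne.post (A := A) (Algebra.ofId R A) with
      commutes' := fun r => WithConv.ext (LinearMap.ext fun a => by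
        change algebraMap R A ((algebraMap R (CartDual.D R A) r) a) = algebraMap R (WithConv (A →ₗ[R] A)) r a
        simp [Algebra.algebraMap_eq_smul_one, smul_smul]) }
    fun _ _ => Commute.all _ _

theorem endMap_tmul (x : A) (ξ : CartDual.D R A) (a : A) : endMap R A (x ⊗ₜ ξ) a = ξ a • x := by
  rw [endMap, Algebra.TensorProduct.lift_tmul]
  change (algebraMap A (WithConv (A →ₗ[R] A)) x * GrothLib.Hopf.Deligne.post (Algebra.ofId R A) ξ) a = _
  rw [← Algebra.smul_def]
  change x • algebraMap R A (ξ a) = _
  rw [Algebra.smul_def (ξ a), smul_eq_mul, mul_comm]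

theorem endMap_apply (z : A ⊗[R] CartDual.D R A) (a : A) :
    endMap R A z a = TensorProduct.rid R A
      (LinearMap.lTensor A ((Module.Dual.eval R A a) ∘ₗ (CartDual.toDual R A).toLinearMap) z) := by
  induction z using TensorProduct.induction_on with
  | zero => simp
  | tmul x ξ => rw [endMap_tmul]; simp
  | add z w hz hw => simp only [map_add, WithConv.ofConv_add, LinearMap.add_apply, hz, hw]

theorem endMap_injective : Function.Injective (endMap R A) := by
  obtain ⟨n, F, G, -, -, hFG⟩ := Module.Finite.exists_comp_eq_id_of_projective R A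
  let Ψ : WithConv (A →ₗ[R] A) → A ⊗[R] CartDual.D R A := fun f =>
    ∑ i, f (F fun j => if i = j then (1 : R) else 0) ⊗ₜ toConv (LinearMap.proj i ∘ₗ G)
  refine Function.LeftInverse.injective (g := Ψ) fun z => ?_
  induction z using TensorProduct.induction_on with
  | zero => simp [Ψ]
  | add z w hz hw =>
    conv_rhs => rw [← hz, ← hw]
    simp only [Ψ, map_add, WithConv.ofConv_add, LinearMap.add_apply, add_tmul, Finset.sum_add_distrib]
  | tmul x ξ =>
    simp only [Ψ, endMap_tmul, TensorProduct.smul_tmul, ← TensorProduct.tmul_sum]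
    refine congrArg (x ⊗ₜ[R] ·) (WithConv.ext (LinearMap.ext fun a => ?_))
    have hx : F (G a) = a := LinearMap.congr_fun hFG a
    conv_rhs => rw [← hx, pi_eq_sum_univ (G a)]
    simp [WithConv.ofConv_sum, LinearMap.sum_apply, mul_comm]

variable {p : ℕ} [Fact p.Prime] {χ : (ZMod p)ˣ →* Rˣ} {u : R}
  (hp : toConv (AlgHom.id R A) ^ p = 1)

theorem id_pow_apply (n : ℕ) (a : A) :
    ((toConv LinearMap.id : WithConv (A →ₗ[R] A)) ^ n) a = SGA3b.powConv R A n a :=
  (DFunLike.congr_fun (congrArg ofConv (AlgHom.toLinearMap_convPow (toConv (AlgHom.id R A)) n)) a).symm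

variable {δ : A ⊗[R] CartDual.D R A}
  (hδ : ∀ a : A, TensorProduct.rid R A
      (LinearMap.lTensor A ((Module.Dual.eval R A a) ∘ₗ (CartDual.toDual R A).toLinearMap) δ) = a)
  {ϕ : MonoidAlgebra R (Multiplicative (ZMod p)) →ₐ[R] A ⊗[R] CartDual.D R A}
  (hϕ : ϕ (OortTate.muT R p) = δ)

include hδ in
theorem endMap_canonical : endMap R A δ = toConv LinearMap.id :=
  WithConv.ext (LinearMap.ext fun a => (endMap_apply δ a).trans (hδ a))

include hp hδ hϕ in
theorem endMap_ygen (i : ℕ) :
    endMap R A (ϕ (OortTate.ygen R p u χ i)) = toConv (proj' hp χ u i) := by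
  let Φ := (endMap R A).comp ϕ
  have hT : ∀ n : ℕ, Φ (OortTate.muT R p ^ n) = (toConv LinearMap.id : WithConv (A →ₗ[R] A)) ^ n := fun n => by
    rw [map_pow]
    congr 1
    change endMap R A (ϕ (OortTate.muT R p)) = _
    rw [hϕ, endMap_canonical hδ]
  change Φ _ = _
  refine WithConv.ext (LinearMap.ext fun a => ?_)
  rw [OortTate.ygen, proj_eq convPow_mu, proj', Module.End.mul_apply]
  simp only [idem, LinearMap.smul_apply, LinearMap.sum_apply, rho_apply, AlgHom.toLinearMap_apply,
    map_smul, map_sum, map_sub, map_one, OortTate.muT, powConv_of, WithConv.ofConv_smul,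
    WithConv.ofConv_sum, WithConv.ofConv_sub, LinearMap.sub_apply, augProj_apply]
  refine congrArg₂ (fun x y : A => x - y) (congrArg (u • ·) (Finset.sum_congr rfl fun m _ => congrArg _ ?_))
    (congrArg (u • ·) (Finset.sum_congr rfl fun m _ => congrArg _ ?_))
  · rw [map_pow (MonoidAlgebra.of R (Multiplicative (ZMod p)))]
    exact (DFunLike.congr_fun (congrArg ofConv (hT _)) a).trans (id_pow_apply _ _)
  · rw [AlgHom.commutes]
    simp

end GrothLib.OT
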