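import Mathlib.RingTheory.Spectrum.Prime.FreeLocus
import Mathlib.RingTheory.LocalProperties.Submodule
import Mathlib.LinearAlgebra.Dual.Lemmas
import Mathlib.RingTheory.Finiteness.Nakayama
import Mathlib.RingTheory.Finiteness.Projective
import Mathlib.Algebra.Algebra.Operations

/-!
Finite projective modules of rank one.
-/

universe u v w

set_option linter.style.haveILetI false

open TensorProduct

namespace GrothLib.OT.RankOne

variable {R : Type u} [CommRing R] {M : Type v} [AddCommGroup M] [Module R M] [Module.Finite R M]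
  [Module.Projective R M] (h1 : ∀ q : PrimeSpectrum R, Module.rankAtStalk (R := R) M q = 1)

include h1

theorem tmul_comm (x y : M) : x ⊗ₜ[R] y = y ⊗ₜ[R] x := by
  refine Module.eq_of_localization_maximal (fun P _ => (Localization.AtPrime P) ⊗[R] (M ⊗[R] M))
    (fun P _ => TensorProduct.mk R (Localization.AtPrime P) (M ⊗[R] M) 1) _ _ fun P hP => ?_
  set S := Localization.AtPrime P
  haveI : Module.Free S (S ⊗[R] M) := Module.free_of_flat_of_isLocalRing
  have hd : Module.finrank S (S ⊗[R] M) = 1 := by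
    let q : PrimeSpectrum S := Classical.arbitrary _
    have h := congrFun (Module.rankAtStalk_eq_finrank_of_free (R := S) (M := S ⊗[R] M)) q
    rw [Module.rankAtStalk_baseChange, h1] at h
    simpa using h.symm
  let b := Module.finBasisOfFinrankEq S (S ⊗[R] M) hd
  apply (AlgebraTensorModule.distribBaseChange R S M M).injective
  have hD : ∀ u v : M, AlgebraTensorModule.distribBaseChange R S M M
      (TensorProduct.mk R S (M ⊗[R] M) 1 (u ⊗ₜ v)) = ((1 : S) ⊗ₜ[R] u) ⊗ₜ[S] ((1 : S) ⊗ₜ[R] v) := fun u v => by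
    simp [AlgebraTensorModule.distribBaseChange]
  rw [hD, hD, ← b.sum_repr ((1 : S) ⊗ₜ[R] x), ← b.sum_repr ((1 : S) ⊗ₜ[R] y)]
  simp [TensorProduct.tmul_smul, TensorProduct.smul_tmul', smul_smul, mul_comm]

theorem bilin_symm {N : Type w} [AddCommGroup N] [Module R N] (β : M →ₗ[R] M →ₗ[R] N) (x y : M) :
    β x y = β y x := by
  simpa using congrArg (TensorProduct.lift β) (tmul_comm h1 x y)

theorem dual_smul_comm (f : Module.Dual R M) (x y : M) : f x • y = f y • x :=
  bilin_symm h1 (LinearMap.smulRight f LinearMap.id) x y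

/-- the trace ideal is everything -/
theorem span_dual_apply_eq_top :
    Ideal.span {r : R | ∃ (f : Module.Dual R M) (x : M), f x = r} = ⊤ := by
  by_contra hne
  obtain ⟨m, hm, hle⟩ := Ideal.exists_le_maximal _ hne
  obtain ⟨n, F, G, -, -, hFG⟩ := Module.Finite.exists_comp_eq_id_of_projective R M
  have htop : (⊤ : Submodule R M) ≤ m • ⊤ := fun x _ => by
    have hx : F (G x) = x := LinearMap.congr_fun hFG x
    rw [← hx, pi_eq_sum_univ (G x), map_sum]
    refine Submodule.sum_mem _ fun i _ => ?_
    rw [map_smul]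
    exact Submodule.smul_mem_smul (hle (Ideal.subset_span ⟨LinearMap.proj i ∘ₗ G, x, rfl⟩)) Submodule.mem_top
  obtain ⟨r, hr, hr0⟩ := Submodule.exists_sub_one_mem_and_smul_eq_zero_of_fg_of_le_smul m ⊤ Module.Finite.fg_top htop
  have hrm : r ∉ m := fun h => hm.ne_top ((Ideal.eq_top_iff_one m).2 (by simpa using m.sub_mem h hr))
  haveI := hm.isPrime
  haveI : Subsingleton (LocalizedModule m.primeCompl M) :=
    LocalizedModule.subsingleton_iff.2 fun x => ⟨r, hrm, hr0 x Submodule.mem_top⟩
  have h := h1 ⟨m, inferInstance⟩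
  rw [Module.rankAtStalk] at h
  rw [Module.finrank_zero_of_subsingleton] at h
  exact zero_ne_one h

theorem eq_zero_of_forall_smul (r : R) (hr : ∀ x : M, r • x = 0) : r = 0 := by
  have h : (1 : R) ∈ Ideal.span {r : R | ∃ (f : Module.Dual R M) (x : M), f x = r} := by
    rw [span_dual_apply_eq_top h1]; trivial
  have : ∀ s ∈ Ideal.span {r : R | ∃ (f : Module.Dual R M) (x : M), f x = r}, r * s = 0 := by
    intro s hs
    induction hs using Submodule.span_induction with
    | mem s hs => obtain ⟨f, x, rfl⟩ := hs; rw [← smul_eq_mul, ← map_smul, hr, map_zero]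
    | zero => rw [mul_zero]
    | add s t _ _ hs ht => rw [mul_add, hs, ht, add_zero]
    | smul c s _ hs => rw [smul_eq_mul, mul_left_comm, hs, mul_zero]
  simpa using this 1 h

/-- endomorphisms are scalars -/
theorem exists_eq_smul (φ : M →ₗ[R] M) : ∃ r : R, ∀ x, φ x = r • x := by
  let J : Ideal R :=
    { carrier := {s | ∃ r : R, ∀ x, s • φ x = r • x}
      zero_mem' := ⟨0, fun x => by simp⟩
      add_mem' := fun {s t} ⟨a, ha⟩ ⟨b, hb⟩ => ⟨a + b, fun x => by rw [add_smul, add_smul, ha, hb]⟩
      smul_mem' := fun c s ⟨a, ha⟩ => ⟨c * a, fun x => by rw [smul_eq_mul, mul_smul, ha, mul_smul]⟩ }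
  have hle : Ideal.span {r : R | ∃ (f : Module.Dual R M) (x : M), f x = r} ≤ J := by
    rw [Ideal.span_le]
    rintro _ ⟨f, y, rfl⟩
    refine ⟨f (φ y), fun x => ?_⟩
    calc f y • φ x = φ (f y • x) := (map_smul φ _ _).symm
      _ = φ (f x • y) := by rw [dual_smul_comm h1 f y x]
      _ = f x • φ y := map_smul φ _ _
      _ = f (φ y) • x := dual_smul_comm h1 f x (φ y)
  obtain ⟨r, hr⟩ := hle (by rw [span_dual_apply_eq_top h1]; trivial : (1 : R) ∈ _)
  exact ⟨r, fun x => by simpa using hr x⟩

section Pow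

variable {B : Type w} [CommRing B] [Algebra R B] (j : M →ₗ[R] B)

theorem prod_smul_prod_comm {n : ℕ} (η : Fin n → Module.Dual R M) (x y : Fin n → M) :
    (∏ k, η k (x k)) • ∏ k, j (y k) = (∏ k, η k (y k)) • ∏ k, j (x k) := by
  induction n with
  | zero => simp
  | succ n ih =>
    simp only [Fin.prod_univ_succ]
    rw [← smul_mul_smul_comm, ← smul_mul_smul_comm, ← map_smul, ← map_smul, dual_smul_comm h1,
      ih (fun k => η k.succ) (fun k => x k.succ) (fun k => y k.succ)]

end Pow

theorem pow_range_symm {B : Type w} [Ring B] [Algebra R B] (j : M →ₗ[R] B) (t : ℕ)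
    {N : Type*} [AddCommGroup N] [Module R N] (β : B →ₗ[R] B →ₗ[R] N) {z w : B}
    (hz : z ∈ LinearMap.range j ^ t) (hw : w ∈ LinearMap.range j ^ t) : β z w = β w z := by
  induction t generalizing β z w with
  | zero =>
    rw [pow_zero, Submodule.mem_one] at hz hw
    obtain ⟨a, rfl⟩ := hz
    obtain ⟨b, rfl⟩ := hw
    rw [Algebra.algebraMap_eq_smul_one, Algebra.algebraMap_eq_smul_one]
    simp [smul_comm a b]
  | succ t ih =>
    rw [pow_succ'] at hz hw
    induction hz using Submodule.mul_induction_on' with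
    | mem_mul_mem a ha z' hz' =>
      induction hw using Submodule.mul_induction_on' with
      | mem_mul_mem b hb w' hw' =>
        obtain ⟨x, rfl⟩ := ha
        obtain ⟨y, rfl⟩ := hb
        have h2 := ih ((β.compl₂ (LinearMap.mulLeft R (j y))).comp (LinearMap.mulLeft R (j x))) hz' hw'
        simp only [LinearMap.comp_apply, LinearMap.compl₂_apply, LinearMap.mulLeft_apply] at h2
        rw [h2]
        exact bilin_symm h1 ((β.compl₂ ((LinearMap.mulRight R z').comp j)).comp ((LinearMap.mulRight R w').comp j)) x y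
      | add w₁ _ w₂ _ e₁ e₂ => simp only [map_add, LinearMap.add_apply, e₁, e₂]
    | add z₁ _ z₂ _ e₁ e₂ => simp only [map_add, LinearMap.add_apply, e₁, e₂]

end GrothLib.OT.RankOne
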