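import Groth.Agent.Lib.OT.Rank
import Groth.Agent.Lib.OT.RankOne
import Mathlib.LinearAlgebra.TensorAlgebra.Grading

/-!
The coordinate ring of a group of order `p` is presented by the tensor algebra of the first
eigenspace and the `p`-th power map.
-/

universe u

set_option linter.style.haveILetI false

open WithConv

namespace GrothLib.OT

variable {R : Type u} [CommRing R] {A : Type u} [CommRing A] [HopfAlgebra R A]
  [Module.Finite R A] [Module.Projective R A] {p : ℕ} [Fact p.Prime]
  {χ : (ZMod p)ˣ →* Rˣ} {u : R} (hu : u * ((p - 1 : ℕ) : R) = 1)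
  (hχ : ∀ m : (ZMod p)ˣ, m ≠ 1 → IsUnit ((χ m : R) - 1))
  (hrk : ∀ q : PrimeSpectrum R, Module.rankAtStalk (R := R) A q = p)
  (hχp : ∀ m : (ZMod p)ˣ, ((χ m : Rˣ) : R) - (((m : ZMod p).val : ℕ) : R) ∈ Ideal.span ({(p : R)} : Set R))

variable (R A p χ) in
/-- the canonical map from the tensor algebra of the first eigenspace -/
noncomputable abbrev presMap : TensorAlgebra R (OortTate.eigenAug R A p χ 1) →ₐ[R] A :=
  TensorAlgebra.lift R (OortTate.eigenAug R A p χ 1).subtype

variable (R A p χ) in
/-- the degree one part of the tensor algebra -/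
noncomputable abbrev degOne : Submodule R (TensorAlgebra R (OortTate.eigenAug R A p χ 1)) :=
  LinearMap.range (TensorAlgebra.ι R)

variable (R A p χ) in
/-- the relations -/
noncomputable abbrev presRel : Ideal (TensorAlgebra R (OortTate.eigenAug R A p χ 1)) :=
  Ideal.span {x : TensorAlgebra R (OortTate.eigenAug R A p χ 1) |
    ∃ (f : Fin p → OortTate.eigenAug R A p χ 1) (g : OortTate.eigenAug R A p χ 1),
      (g : A) = ∏ i, (f i : A) ∧
      x = (List.ofFn fun i => TensorAlgebra.ι R (f i)).prod - TensorAlgebra.ι R g}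

omit [Module.Finite R A] [Module.Projective R A] in
theorem map_degOne_pow (t : ℕ) :
    (degOne R A p χ ^ t).map (presMap R A p χ).toLinearMap = OortTate.eigenAug R A p χ 1 ^ t := by
  rw [Submodule.map_pow]
  congr 1
  ext a
  simp only [Submodule.mem_map, LinearMap.mem_range]
  exact ⟨fun ⟨_, ⟨f, hf⟩, h⟩ => by subst hf; rw [← h]; simp,
    fun h => ⟨TensorAlgebra.ι R ⟨a, h⟩, ⟨_, rfl⟩, by simp⟩⟩

include hu hχ hrk hχp

theorem presMap_surjective : Function.Surjective (presMap R A p χ) := by
  rw [← AlgHom.coe_toLinearMap, ← LinearMap.range_eq_top, eq_top_iff, ← powSum_eq_top hu hχ hrk hχp,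
    powSum, iSup_le_iff]
  intro t
  rw [← map_degOne_pow]
  exact LinearMap.map_le_range

theorem eq_zero_of_mem_pow {t : ℕ} (ht : t ≤ p - 1) {z : TensorAlgebra R (OortTate.eigenAug R A p χ 1)}
    (hz : z ∈ degOne R A p χ ^ t) (h0 : presMap R A p χ z = 0) : z = 0 := by
  rcases Nat.eq_zero_or_pos t with rfl | htpos
  · rw [pow_zero, Submodule.mem_one] at hz
    obtain ⟨r, rfl⟩ := hz
    have h := congrArg (Bialgebra.counitAlgHom R A) h0
    rw [AlgHom.commutes, AlgHom.commutes, map_zero, Algebra.algebraMap_self, RingHom.id_apply] at h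
    rw [h, map_zero]
  · have hp := convPow_eq_one (A := A) hrk
    haveI := finite_eigenAug hu hχ hrk 1
    haveI := projective_eigenAug hu hχ hrk 1
    haveI := finite_eigenAug hu hχ hrk t
    haveI := projective_eigenAug hu hχ hrk t
    have key : ∀ s ∈ Ideal.span {r : R | ∃ (f : Module.Dual R (OortTate.eigenAug R A p χ t))
        (x : OortTate.eigenAug R A p χ t), f x = r}, s • z = 0 := by
      intro s hs
      induction hs using Submodule.span_induction with
      | mem s hs =>
        obtain ⟨ψ, x, rfl⟩ := hs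
        obtain ⟨w, hw, hwx⟩ : (x : A) ∈ (degOne R A p χ ^ t).map (presMap R A p χ).toLinearMap := by
          rw [map_degOne_pow, pow_eigenAug_eq hu hχ hrk hχp htpos ht]
          exact x.2
        let g : TensorAlgebra R (OortTate.eigenAug R A p χ 1) →ₗ[R] R :=
          ψ ∘ₗ (LinearMap.codRestrict _ (proj' hp χ u t) fun a => proj'_mem hp t a) ∘ₗ
            (presMap R A p χ).toLinearMap
        have h := RankOne.pow_range_symm (rankAtStalk_eigenAug hu hχ hrk hχp 1) (TensorAlgebra.ι R) t
          ((LinearMap.lsmul R _).comp g) hw hz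
        simp only [LinearMap.comp_apply, LinearMap.lsmul_apply] at h
        have hgz : g z = 0 := by
          simp only [g, LinearMap.comp_apply, AlgHom.toLinearMap_apply, h0, map_zero]
        have hgw : g w = ψ x := by
          simp only [g, LinearMap.comp_apply, hwx]
          exact congrArg ψ (Subtype.ext (proj'_eq_self hp hχ hu x.2))
        rw [hgz, zero_smul, hgw] at h
        exact h
      | zero => rw [zero_smul]
      | add a b _ _ ha hb => rw [add_smul, ha, hb, add_zero]
      | smul c a _ ha => rw [smul_eq_mul, mul_smul, ha, smul_zero]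
    simpa using key 1 (by rw [RankOne.span_dual_apply_eq_top (rankAtStalk_eigenAug hu hχ hrk hχp t)]; trivial)

theorem degOne_pow_le (n : ℕ) : degOne R A p χ ^ n ≤
    (presRel R A p χ).restrictScalars R ⊔ ⨆ t : Fin p, degOne R A p χ ^ (t : ℕ) := by
  induction n using Nat.strong_induction_on with
  | _ n ih =>
  have hp2 := (Fact.out : p.Prime).two_le
  by_cases hn : n < p
  · exact le_sup_of_le_right (le_iSup (fun t : Fin p => degOne R A p χ ^ (t : ℕ)) ⟨n, hn⟩)
  have hV : ∀ w ∈ degOne R A p χ ^ p, ∃ g : OortTate.eigenAug R A p χ 1,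
      w - TensorAlgebra.ι R g ∈ presRel R A p χ := by
    intro w hw
    rw [show degOne R A p χ = Submodule.span R (Set.range (TensorAlgebra.ι R)) by
      rw [degOne, ← LinearMap.coe_range, Submodule.span_eq], Submodule.span_pow] at hw
    induction hw using Submodule.span_induction with
    | mem w hw =>
      obtain ⟨f, rfl⟩ := Set.mem_pow.1 hw
      choose x hx using fun i => (f i).2
      have hmemI : (∏ i, (x i : A)) ∈ OortTate.eigenAug R A p χ 1 := by
        have h := prod_mem_eigenAug (R := R) (χ := χ) Finset.univ ⟨⟨0, by omega⟩, Finset.mem_univ _⟩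
          (fun i => (x i : A)) fun i _ => (x i).2
        rwa [Finset.card_univ, Fintype.card_fin,
          eigenAug_congr (j := 1) ((Nat.modEq_iff_dvd' (by omega)).2 dvd_rfl).symm] at h
      refine ⟨⟨_, hmemI⟩, Ideal.subset_span ⟨x, ⟨_, hmemI⟩, rfl, ?_⟩⟩
      simp only [hx]
    | zero => exact ⟨0, by simp⟩
    | add a b _ _ ha hb =>
      obtain ⟨g, hg⟩ := ha
      obtain ⟨g', hg'⟩ := hb
      exact ⟨g + g', by simpa [add_sub_add_comm] using Ideal.add_mem _ hg hg'⟩
    | smul c a _ ha =>
      obtain ⟨g, hg⟩ := ha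
      exact ⟨c • g, by rw [map_smul, ← smul_sub]; exact Submodule.smul_of_tower_mem _ c hg⟩
  rw [show n = (n - p) + p by omega, pow_add]
  refine Submodule.mul_le.2 fun z hz w hw => ?_
  obtain ⟨g, hg⟩ := hV w hw
  rw [← sub_add_cancel (z * w) (z * TensorAlgebra.ι R g), ← mul_sub]
  refine Submodule.add_mem _ (Submodule.mem_sup_left (Ideal.mul_mem_left _ z hg)) (ih (n - p + 1) (by omega) ?_)
  rw [pow_succ]
  exact Submodule.mul_mem_mul hz ⟨g, rfl⟩

theorem ker_presMap : RingHom.ker (presMap R A p χ) = presRel R A p χ := by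
  classical
  refine le_antisymm (fun x hx => ?_) (Ideal.span_le.2 ?_)
  · have hp := convPow_eq_one (A := A) hrk
    have hmem : x ∈ (presRel R A p χ).restrictScalars R ⊔ ⨆ t : Fin p, degOne R A p χ ^ (t : ℕ) := by
      have htop := (DirectSum.Decomposition.isInternal
        (fun i : ℕ => degOne R A p χ ^ i)).submodule_iSup_eq_top
      exact (htop.ge.trans (iSup_le fun n => degOne_pow_le hu hχ hrk hχp n)) Submodule.mem_top
    rw [Submodule.mem_sup] at hmem
    obtain ⟨j, hj, y, hy, rfl⟩ := hmem
    have hjle : presRel R A p χ ≤ RingHom.ker (presMap R A p χ) := by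
      rw [Ideal.span_le]
      rintro _ ⟨f, g, hg, rfl⟩
      rw [SetLike.mem_coe, RingHom.mem_ker, map_sub, map_list_prod, List.map_ofFn, List.prod_ofFn,
        TensorAlgebra.lift_ι_apply, Submodule.subtype_apply, hg, sub_eq_zero]
      exact Finset.prod_congr rfl fun i _ => by simp
    rw [RingHom.mem_ker, map_add, RingHom.mem_ker.1 (hjle hj), zero_add] at hx
    obtain ⟨μ', hμ', rfl⟩ := (Submodule.mem_iSup_iff_exists_finsupp _ y).1 hy
    obtain ⟨μ, hμ, hsum⟩ : ∃ μ : Fin p → TensorAlgebra R (OortTate.eigenAug R A p χ 1),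
        (∀ t : Fin p, μ t ∈ degOne R A p χ ^ (t : ℕ)) ∧ ∑ t, μ t = μ'.sum fun _ a => a :=
      ⟨fun t => μ' t, hμ', (Finsupp.sum_fintype μ' (fun _ a => a) fun _ => rfl).symm⟩
    rw [← hsum] at hx ⊢
    suffices h : ∀ t, μ t = 0 by simpa [h] using hj
    intro t
    refine eq_zero_of_mem_pow hu hχ hrk hχp (by omega) (hμ t) ?_
    have hmem' : ∀ s : Fin p, presMap R A p χ (μ s) ∈ OortTate.eigenAug R A p χ 1 ^ (s : ℕ) := fun s => by
      rw [← map_degOne_pow]; exact ⟨_, hμ s, rfl⟩
    rcases Nat.eq_zero_or_pos (t : ℕ) with ht | ht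
    · have h := congrArg (Bialgebra.counitAlgHom R A) hx
      rw [map_sum, map_sum, map_zero, Finset.sum_eq_single t] at h
      · have h1 := hmem' t
        rw [ht, pow_zero, Submodule.mem_one] at h1
        obtain ⟨r, hr⟩ := h1
        rw [← hr] at h ⊢
        rw [AlgHom.commutes, Algebra.algebraMap_self, RingHom.id_apply] at h
        rw [h, map_zero]
      · intro s _ hs
        have hs0 : 1 ≤ (s : ℕ) := Nat.pos_of_ne_zero fun e => hs (Fin.ext (e.trans ht.symm))
        exact (mem_eigenAug.1 (pow_le_eigenAug hs0 (hmem' s))).1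
      · simp
    · have h := congrArg (proj' hp χ u (t : ℕ)) hx
      rw [map_sum, map_sum, map_zero, Finset.sum_eq_single t,
        proj'_eq_self hp hχ hu (pow_le_eigenAug ht (hmem' t))] at h
      · exact h
      · intro s _ hs
        rcases Nat.eq_zero_or_pos (s : ℕ) with hs0 | hs0
        · have h1 := hmem' s
          rw [hs0, pow_zero, Submodule.mem_one] at h1
          obtain ⟨r, hr⟩ := h1
          rw [← hr, proj', Module.End.mul_apply, augProj_apply, AlgHom.commutes]
          simp
        · exact proj'_eq_zero hp hχ hu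
            (fun e => hs (Fin.ext (eq_of_modEq hs0 (by omega) ht (by omega) e.symm)))
            (pow_le_eigenAug hs0 (hmem' s))
      · simp
  · rintro _ ⟨f, g, hg, rfl⟩
    rw [SetLike.mem_coe, RingHom.mem_ker, map_sub, map_list_prod, List.map_ofFn, List.prod_ofFn,
      TensorAlgebra.lift_ι_apply, Submodule.subtype_apply, hg, sub_eq_zero]
    exact Finset.prod_congr rfl fun i _ => by simp

end GrothLib.OT
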